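import Cfsg.Agent.Lib.MonsterLocal.Large

/-!
The centralizer of the image of the central involution in the centralizer of an odd element modulo that element.
-/

set_option autoImplicit false
set_option maxHeartbeats 1000000

namespace Cfsg.Lib.MonsterLocal

open Cfsg Cfsg.Lib.Concrete

namespace Datum

variable {G : Type*} [Group G] [Finite G] {z : G} {Q : Subgroup (Subgroup.centralizer ({z} : Set G))} [Q.Normal]
  {f : Co0} {p : ℕ} {a : G} (D : Datum z Q f p a)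

/-- The centralizer of the element and of the involution. -/
def cenBoth (_D : Datum z Q f p a) : Subgroup (Subgroup.centralizer (Subgroup.zpowers a : Set G)) :=
  (Subgroup.centralizer ({z} : Set G)).subgroupOf _

include D in
/-- The map to the group acting on the fixed classes. -/
theorem exists_theta {L : Type*} [Group L] (ρ : Subgroup.centralizer ({f} : Set Co0) →* L)
    (hρ : Function.Surjective ρ)
    (hker : ∀ g, ρ g = 1 ↔ g.1 ∈ Subgroup.center Co0 ⊔ Subgroup.zpowers f) :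
    ∃ Θ : D.cenBoth →* L, Function.Surjective Θ ∧
      ∀ c : D.cenBoth, Θ c = 1 ↔ ∃ i : ℤ, ((c : Subgroup.centralizer (Subgroup.zpowers a : Set G)) : G) * (a ^ i)⁻¹ ∈ D.fixR := by
  let ι : D.cenBoth →* Subgroup.centralizer ({z} : Set G) :=
    MonoidHom.codRestrict ((Subgroup.centralizer (Subgroup.zpowers a : Set G)).subtype.comp D.cenBoth.subtype) _
      fun c => c.2
  have hcomm : ∀ c : D.cenBoth, Commute a ((ι c : Subgroup.centralizer ({z} : Set G)) : G) := fun c =>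
    mem_centralizer_zpowers.1 c.1.2
  let θ0 : Subgroup.centralizer ({f} : Set Co0) →* Spor.Co1 :=
    (QuotientGroup.mk' (Subgroup.center Co0)).comp (Subgroup.centralizer ({f} : Set Co0)).subtype
  have hle : θ0.ker ≤ ρ.ker := fun g hg => (hker g).2 (Subgroup.mem_sup_left ((QuotientGroup.eq_one_iff _).1 hg))
  let ν : D.cenBoth →* θ0.range := MonoidHom.codRestrict (D.φ.comp ι) _ fun c => by
    obtain ⟨g, hg, hgf⟩ := D.exists_commute (hcomm c)
    exact ⟨⟨g, Subgroup.mem_centralizer_singleton_iff.2 hgf⟩, hg.symm⟩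
  let Θ : D.cenBoth →* L := (QuotientGroup.lift θ0.ker ρ hle).comp
    ((QuotientGroup.quotientKerEquivRange θ0).symm.toMonoidHom.comp ν)
  have hspec : ∀ (c : D.cenBoth) (g : Subgroup.centralizer ({f} : Set Co0)),
      D.φ (ι c) = QuotientGroup.mk g.1 → Θ c = ρ g := by
    intro c g hg
    have e : ν c = QuotientGroup.quotientKerEquivRange θ0 (QuotientGroup.mk g) := Subtype.ext hg
    show QuotientGroup.lift θ0.ker ρ hle ((QuotientGroup.quotientKerEquivRange θ0).symm (ν c)) = _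
    rw [e, MulEquiv.symm_apply_apply]
    rfl
  refine ⟨Θ, fun l => ?_, fun c => ⟨fun h => ?_, ?_⟩⟩
  · obtain ⟨g, rfl⟩ := hρ l
    obtain ⟨c, hc, hca⟩ := D.exists_lift (g := g.1) (k := 1) (by
      rw [pow_one, Subgroup.mem_centralizer_singleton_iff.1 g.2, mul_inv_cancel_right])
    rw [pow_one, mul_inv_eq_iff_eq_mul] at hca
    exact ⟨⟨⟨c.1, mem_centralizer_zpowers.2 hca.symm⟩, c.2⟩, hspec _ g hc⟩
  · obtain ⟨g, hg, hgf⟩ := D.exists_commute (hcomm c)
    rw [hspec c ⟨g, Subgroup.mem_centralizer_singleton_iff.2 hgf⟩ hg, hker] at h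
    obtain ⟨t, ht, w, hw, rfl⟩ := Subgroup.mem_sup_of_normal_left.1 h
    obtain ⟨i, rfl⟩ := Subgroup.mem_zpowers_iff.1 hw
    refine ⟨i, D.mem_fixR.2 ⟨⟨ι c * (D.aC ^ i)⁻¹, ?_⟩, ?_, ?_⟩⟩
    · rw [← D.φ_ker, map_mul, map_inv, map_zpow, hg, D.φ_aC, QuotientGroup.mk_mul,
        (QuotientGroup.eq_one_iff t).2 ht, one_mul, QuotientGroup.mk_zpow, mul_inv_cancel]
    · show ((c : Subgroup.centralizer (Subgroup.zpowers a : Set G)) : G) * ((D.aC ^ i :
        Subgroup.centralizer ({z} : Set G)) : G)⁻¹ = _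
      rw [SubgroupClass.coe_zpow]; rfl
    · exact (hcomm c).mul_right (((Commute.refl a).zpow_right i).inv_right)
  · rintro ⟨i, hi⟩
    obtain ⟨q, hq, -⟩ := D.mem_fixR.1 hi
    have hgf : f ^ i ∈ Subgroup.centralizer ({f} : Set Co0) :=
      Subgroup.mem_centralizer_singleton_iff.2 ((Commute.refl f).zpow_left i).eq
    rw [hspec c ⟨f ^ i, hgf⟩ ?_, hker]
    · exact Subgroup.mem_sup_right (Subgroup.zpow_mem_zpowers f i)
    · have e : ι c = (q : Subgroup.centralizer ({z} : Set G)) * D.aC ^ i := Subtype.ext (by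
        show ((c : Subgroup.centralizer (Subgroup.zpowers a : Set G)) : G) =
          ((q : Subgroup.centralizer ({z} : Set G)) : G) * ((D.aC ^ i : Subgroup.centralizer ({z} : Set G)) : G)
        rw [hq, SubgroupClass.coe_zpow, show (D.aC : G) = a from rfl, inv_mul_cancel_right])
      rw [e, map_mul, D.φ_ker.2 q.2, one_mul, map_zpow, D.φ_aC, QuotientGroup.mk_zpow]

include D in
/-- The local type of the centralizer modulo the element. -/
theorem local_type {L : Type*} [Group L] (ρ : Subgroup.centralizer ({f} : Set Co0) →* L)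
    (hρ : Function.Surjective ρ)
    (hker : ∀ g, ρ g = 1 ↔ g.1 ∈ Subgroup.center Co0 ⊔ Subgroup.zpowers f)
    (hfix : ∀ g : Subgroup.centralizer ({f} : Set Co0), (∀ q ∈ fixSet f, qact g.1 q = q) → ρ g = 1)
    (hL : ∀ N : Subgroup L, N.Normal → IsPGroup 2 N → N = ⊥)
    {w : ℕ} (hw : (fixSet f).ncard = 2 ^ (2 * w)) (h16 : 16 ≤ (fixSet f).ncard)
    {s : G} (hsR : s ∈ D.fixR) (hs : IsConj z s) (hs1 : s ≠ z)
    [hn : ((Subgroup.zpowers a).subgroupOf (Subgroup.centralizer (Subgroup.zpowers a : Set G))).Normal] :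
    ∃ (zb : ↥(Subgroup.centralizer (Subgroup.zpowers a : Set G)) ⧸
          (Subgroup.zpowers a).subgroupOf (Subgroup.centralizer (Subgroup.zpowers a : Set G)))
      (Qb : Subgroup (Subgroup.centralizer ({zb} : Set _))) (_ : Qb.Normal),
      IsExtraspecialCentralizerSetting zb Qb w ∧
      Nonempty ((Subgroup.centralizer ({zb} : Set _)) ⧸ Qb ≃* L) ∧
      Set.ncard {x : Subgroup.centralizer ({zb} : Set _) | x ∈ Qb ∧ IsConj zb (x : _)} =
        2 * (fixSet f ∩ sixtySet).ncard + 1 := by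
  classical
  haveI : Fact (Nat.Prime 2) := ⟨Nat.prime_two⟩
  have hfaith : ∀ g : Co0, Commute g f → (∀ q ∈ fixSet f, qact g q = q) →
      g ∈ Subgroup.center Co0 ⊔ Subgroup.zpowers f := fun g hg h =>
    (hker ⟨g, Subgroup.mem_centralizer_singleton_iff.2 hg⟩).1 (hfix _ h)
  have hconjM : ∀ r ∈ D.fixR, IsConj z r → r ≠ z →
      ∃ x ∈ Subgroup.centralizer (Subgroup.zpowers a : Set G), x * r * x⁻¹ = z := by
    intro r hr hc hne
    obtain ⟨g, rfl⟩ := isConj_iff.1 hc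
    exact (D.large_and_conj hfaith h16 hr hne).2
  obtain ⟨gs, hgs⟩ := isConj_iff.1 hs
  obtain ⟨hlarge, -⟩ := D.large_and_conj hfaith h16 (g := gs) (by rw [hgs]; exact hsR) (by rw [hgs]; exact hs1)
  set M := Subgroup.centralizer (Subgroup.zpowers a : Set G) with hMdef
  set N := (Subgroup.zpowers a).subgroupOf M with hN
  set π := QuotientGroup.mk' N with hπ
  set R' := (D.fixR.subgroupOf M).map π with hR'
  obtain ⟨hE, hcent, hnorm, -⟩ := hlarge
  have hRM : D.fixR ≤ M := inf_le_right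
  have hone : ∀ m : M, π m = 1 ↔ (m : G) ∈ Subgroup.zpowers a := fun m => by
    rw [hπ, QuotientGroup.mk'_apply, QuotientGroup.eq_one_iff, hN, Subgroup.mem_subgroupOf]
  have hz2 : z * z = 1 := by rw [← pow_two, ← D.setting.1, pow_orderOf_eq_one]
  have hodd1 : ∀ x ∈ Subgroup.zpowers a, x * x = 1 → x = 1 := by
    intro x hx h
    have h1 : orderOf x ∣ 2 := orderOf_dvd_of_pow_eq_one (by rw [pow_two, h])
    have h2 : orderOf x ∣ p := by
      have h2 := orderOf_dvd_natCard (⟨x, hx⟩ : Subgroup.zpowers a)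
      rwa [Subgroup.orderOf_mk, Nat.card_zpowers, D.order] at h2
    exact orderOf_eq_one_iff.1 (Nat.eq_one_of_dvd_coprimes (Nat.coprime_two_left.2 D.odd) h1 h2)
  have hinjR : ∀ r : M, (r : G) ∈ D.fixR → π r = 1 → r = 1 := by
    intro r hr h
    obtain ⟨q, hq, -⟩ := D.mem_fixR.1 hr
    have h1 : orderOf (r : G) ∣ p := by
      have h1 := orderOf_dvd_natCard (⟨(r : G), (hone r).1 h⟩ : Subgroup.zpowers a)
      rwa [Subgroup.orderOf_mk, Nat.card_zpowers, D.order] at h1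
    have h2 : orderOf (r : G) ∣ 2 ^ 25 := by
      rw [← hq, Subgroup.orderOf_coe, Subgroup.orderOf_coe, ← D.card_Q]; exact orderOf_dvd_natCard _
    refine Subtype.ext (orderOf_eq_one_iff.1 (Nat.eq_one_of_dvd_coprimes ?_ h1 h2))
    exact Nat.Coprime.pow_right _ (Nat.coprime_two_right.2 D.odd)
  have hinj : ∀ r r' : M, (r : G) ∈ D.fixR → (r' : G) ∈ D.fixR → π r = π r' → r = r' := fun r r' h h' e =>
    mul_inv_eq_one.1 (hinjR _ (mul_mem h (inv_mem h')) (by rw [map_mul, map_inv, e, mul_inv_cancel]))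
  set zM : M := ⟨z, hRM D.z_fixR⟩ with hzM
  set zb := π zM with hzb
  have hzR' : zb ∈ R' := ⟨zM, D.z_fixR, rfl⟩
  have hzb1 : zb ≠ 1 := fun h => D.z_ne_one (congrArg Subtype.val (hinjR zM D.z_fixR h))
  have hRe : ∀ x ∈ R', ∃ r : M, (r : G) ∈ D.fixR ∧ π r = x := by
    rintro _ ⟨r, hr, rfl⟩; exact ⟨r, hr, rfl⟩
  have hrz : ∀ r ∈ D.fixR, Commute r z := fun r hr => by
    obtain ⟨q, rfl, -⟩ := D.mem_fixR.1 hr
    exact Subgroup.mem_centralizer_singleton_iff.1 (q : Subgroup.centralizer ({z} : Set G)).2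
  have hzc : (⟨zb, hzR'⟩ : R') ∈ Subgroup.center R' := Subgroup.mem_center_iff.2 fun x => Subtype.ext (by
    obtain ⟨r, hr, e⟩ := hRe x x.2
    show (x : M ⧸ N) * zb = zb * x
    rw [← e, hzb, ← map_mul, ← map_mul]
    exact congrArg π (Subtype.ext (hrz r hr).eq))
  have hcen : ∀ x ∈ (Subgroup.center R').map R'.subtype, x = 1 ∨ x = zb := by
    rintro _ ⟨c, hc, rfl⟩
    by_cases h : c = 1
    · exact Or.inl (by rw [h]; rfl)
    · exact Or.inr (congrArg Subtype.val (center_eq_of_ne_one hE.2 hc hzc h fun e => hzb1 (congrArg Subtype.val e)))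
  set Cz := Subgroup.centralizer ({zb} : Set (M ⧸ N)) with hCz
  have hCn : Cz ≤ Subgroup.normalizer (R' : Set (M ⧸ N)) := by
    refine le_trans (fun c hc => Subgroup.mem_centralizer_iff.2 fun x hx => ?_) hnorm
    rcases hcen x hx with rfl | rfl
    · simp
    · exact (Subgroup.mem_centralizer_singleton_iff.1 hc).symm
  have hR'Cz : R' ≤ Cz := fun x hx => by
    obtain ⟨r, hr, rfl⟩ := hRe x hx
    refine Subgroup.mem_centralizer_singleton_iff.2 ?_
    rw [hzb, ← map_mul, ← map_mul]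
    exact congrArg π (Subtype.ext (hrz r hr).eq)
  set Qb := R'.subgroupOf Cz with hQb
  have hQbn : Qb.Normal := (Subgroup.normal_subgroupOf_iff_le_normalizer hR'Cz).2 hCn
  let eQ : Qb ≃* R' := Subgroup.subgroupOfEquivOfLe hR'Cz
  -- lifting the centralizer of `zb`
  obtain ⟨Θ, hΘs, hΘk⟩ := D.exists_theta ρ hρ hker
  have hczM : ∀ c : D.cenBoth, π c.1 ∈ Cz := fun c => Subgroup.mem_centralizer_singleton_iff.2 (by
    rw [hzb, ← map_mul, ← map_mul]
    exact congrArg π (Subtype.ext (Subgroup.mem_centralizer_singleton_iff.1 c.2)))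
  let κ : D.cenBoth →* Cz := MonoidHom.codRestrict (π.comp D.cenBoth.subtype) Cz hczM
  have hfixz : ∀ (m : M) (r : G), r ∈ D.fixR → r * r = 1 → ∀ (hrM : r ∈ M),
      π m * zb * (π m)⁻¹ = π ⟨r, hrM⟩ → (m : G) * z * (m : G)⁻¹ = r := by
    intro m r hr hr2 hrM h
    have h1 : π (m * zM * m⁻¹ * (⟨r, hrM⟩ : M)⁻¹) = 1 := by
      rw [map_mul, map_mul, map_mul, map_inv, map_inv, ← hzb, h, mul_inv_cancel]
    have h2 := (hone _).1 h1
    set u := (m : G) * z * (m : G)⁻¹ with hu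
    have hcu : Commute (u * r⁻¹) r := mem_centralizer_zpowers.1 (hRM hr) |> fun hc => by
      obtain ⟨i, hi⟩ := Subgroup.mem_zpowers_iff.1 h2
      rw [← show a ^ i = u * r⁻¹ from hi]
      exact hc.zpow_left i
    refine mul_inv_eq_one.1 (hodd1 (u * r⁻¹) h2 ?_)
    have hri : r⁻¹ = r := inv_eq_of_mul_eq_one_right hr2
    have hur : Commute u r := by
      have := hcu.mul_left (Commute.refl r)
      rwa [inv_mul_cancel_right] at this
    rw [hur.inv_right.symm.mul_mul_mul_comm, hri, hr2, mul_one, hu, show (m : G) * z * (m : G)⁻¹ *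
      ((m : G) * z * (m : G)⁻¹) = (m : G) * (z * z) * (m : G)⁻¹ by group, hz2, mul_one, mul_inv_cancel]
  have hκs : Function.Surjective κ := by
    rintro ⟨x, hx⟩
    obtain ⟨m, rfl⟩ := QuotientGroup.mk'_surjective N x
    have h := hfixz m z D.z_fixR hz2 (hRM D.z_fixR) (by
      show π m * zb * (π m)⁻¹ = zb
      rw [Subgroup.mem_centralizer_singleton_iff.1 hx, mul_inv_cancel_right])
    exact ⟨⟨m, Subgroup.mem_centralizer_singleton_iff.2 (mul_inv_eq_iff_eq_mul.1 h)⟩, rfl⟩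
  let Ψ : D.cenBoth →* Cz ⧸ Qb := (QuotientGroup.mk' Qb).comp κ
  have hΨs : Function.Surjective Ψ := (QuotientGroup.mk'_surjective Qb).comp hκs
  have hkk : Ψ.ker = Θ.ker := by
    ext c
    rw [MonoidHom.mem_ker, MonoidHom.mem_ker, hΘk]
    show QuotientGroup.mk (κ c) = 1 ↔ _
    rw [QuotientGroup.eq_one_iff, hQb, Subgroup.mem_subgroupOf]
    show π c.1 ∈ R' ↔ _
    constructor
    · intro h
      obtain ⟨r, hr, hrc⟩ := hRe _ h
      have h1 : (c.1 : G) * (r : G)⁻¹ ∈ Subgroup.zpowers a :=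
        (hone (c.1 * r⁻¹)).1 (by rw [map_mul, map_inv, hrc, mul_inv_cancel])
      obtain ⟨i, hi⟩ := Subgroup.mem_zpowers_iff.1 h1
      refine ⟨i, ?_⟩
      have hci : Commute (c.1 : G) (a ^ i) := ((mem_centralizer_zpowers.1 c.1.2).zpow_left i).symm
      rw [(hci.inv_right).eq, hi, show ((c.1 : G) * (r : G)⁻¹)⁻¹ * (c.1 : G) = (r : G) by group]
      exact hr
    · rintro ⟨i, hi⟩
      have ha : a ^ i ∈ M := zpow_mem (mem_centralizer_zpowers.2 (Commute.refl a)) i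
      refine ⟨c.1 * (⟨a ^ i, ha⟩ : M)⁻¹, hi, ?_⟩
      rw [map_mul, map_inv, (hone ⟨a ^ i, ha⟩).2 (Subgroup.zpow_mem_zpowers a i), inv_one, mul_one]
  let eL : Cz ⧸ Qb ≃* L := ((QuotientGroup.quotientKerEquivOfSurjective Ψ hΨs).symm.trans
    (QuotientGroup.quotientMulEquivOfEq hkk)).trans (QuotientGroup.quotientKerEquivOfSurjective Θ hΘs)
  -- the generalized Fitting subgroup
  have hQp : IsPGroup 2 Qb := hE.1.1.of_equiv eQ.symm
  have hcQ : Subgroup.centralizer (Qb : Set Cz) ≤ Qb := by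
    intro c hc
    have h1 : (c : M ⧸ N) ∈ Subgroup.centralizer (R' : Set (M ⧸ N)) := Subgroup.mem_centralizer_iff.2 fun x hx =>
      congrArg Subtype.val (Subgroup.mem_centralizer_iff.1 hc ⟨x, hR'Cz hx⟩ hx)
    rw [hcent] at h1
    exact (Subgroup.map_subtype_le _ h1 : (c : M ⧸ N) ∈ R')
  have hcore : Cfsg.pCore 2 Cz = Qb := by
    refine le_antisymm (fun x hx => ?_) (Cfsg.Lib.Core.le_pCore' hQbn hQp)
    have h := hL (((Cfsg.pCore 2 Cz).map (QuotientGroup.mk' Qb)).map eL.toMonoidHom)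
      ((Subgroup.Normal.map inferInstance _ (QuotientGroup.mk'_surjective Qb)).map _ eL.surjective)
      (((Cfsg.Lib.Core.pCore_isPGroup 2 Cz).map _).map _)
    have h1 : eL (QuotientGroup.mk x) ∈ (⊥ : Subgroup L) := h ▸ ⟨_, ⟨x, hx, rfl⟩, rfl⟩
    rw [Subgroup.mem_bot, MulEquiv.map_eq_one_iff, QuotientGroup.eq_one_iff] at h1
    exact h1
  have hF : Cfsg.generalizedFittingSubgroup Cz = Qb := by
    rw [← hcore]
    exact Cfsg.Lib.Core.generalizedFitting_eq_pCore_iff.2 (hcore.symm ▸ hcQ)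
  have hcard : Nat.card Qb = 2 ^ (2 * w + 1) := by
    rw [Nat.card_congr eQ.toEquiv, hR']
    rw [← Nat.card_congr (Equiv.ofBijective
      (fun r : D.fixR.subgroupOf M => (⟨π r.1, r.1, r.2, rfl⟩ : (D.fixR.subgroupOf M).map π))
      ⟨fun r r' h => Subtype.ext (hinj _ _ r.2 r'.2 (congrArg Subtype.val h)),
        fun x => by obtain ⟨r, hr, e⟩ := x.2; exact ⟨⟨r, hr⟩, Subtype.ext e⟩⟩),
      Nat.card_congr (Subgroup.subgroupOfEquivOfLe hRM).toEquiv, D.card_fixR, hw, pow_succ, mul_comm]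
  have hord : orderOf zb = 2 := orderOf_eq_prime (by
    rw [pow_two, hzb, ← map_mul]
    exact (congrArg π (Subtype.ext hz2)).trans (map_one π)) hzb1
  have hto : ∀ r : M, (r : G) ∈ D.fixR → IsConj z (r : G) → IsConj zb (π r) := by
    intro r hr hc
    by_cases h : (r : G) = z
    · rw [show r = zM from Subtype.ext h]
    · obtain ⟨x, hx, e⟩ := hconjM r hr hc h
      exact (isConj_iff.2 ⟨π ⟨x, hx⟩, by
        rw [← map_inv, ← map_mul, ← map_mul, hzb]; exact congrArg π (Subtype.ext e)⟩).symm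
  refine ⟨zb, Qb, hQbn, ⟨hord, hF, Cfsg.Lib.Extra.isExtraspecial_congr eQ.symm hE, hcard, ?_⟩, ⟨eL⟩, ?_⟩
  · have hc := hto ⟨s, hRM hsR⟩ hsR hs
    obtain ⟨g, hg⟩ := isConj_iff.1 hc
    refine ⟨g, ?_, ?_⟩
    · rw [hg]; exact ⟨hR'Cz ⟨⟨s, hRM hsR⟩, hsR, rfl⟩, ⟨⟨s, hRM hsR⟩, hsR, rfl⟩⟩
    · rw [hg]
      intro e
      exact hs1 (congrArg Subtype.val (hinj ⟨s, hRM hsR⟩ zM hsR D.z_fixR e))
  · rw [← D.ncard_conj]
    refine (Set.ncard_congr (fun r hr => (⟨π ⟨r, hRM hr.1⟩, hR'Cz ⟨⟨r, hRM hr.1⟩, hr.1, rfl⟩⟩ : Cz)) ?_ ?_ ?_).symm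
    · intro r hr
      exact ⟨⟨⟨r, hRM hr.1⟩, hr.1, rfl⟩, hto _ hr.1 hr.2⟩
    · intro r r' hr hr' e
      exact congrArg Subtype.val (hinj ⟨r, hRM hr.1⟩ ⟨r', hRM hr'.1⟩ hr.1 hr'.1 (congrArg Subtype.val e))
    · rintro ⟨x, hx⟩ ⟨hxQ, hxc⟩
      obtain ⟨r, hr, rfl⟩ := hRe x hxQ
      obtain ⟨g, hg⟩ := isConj_iff.1 hxc
      obtain ⟨m, rfl⟩ := QuotientGroup.mk'_surjective N g
      have hr2 : (r : G) * r = 1 := by
        refine congrArg Subtype.val (hinjR (r * r) (mul_mem hr hr) ?_)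
        rw [map_mul, ← show π m * zb * (π m)⁻¹ = π r from hg, show π m * zb * (π m)⁻¹ * (π m * zb * (π m)⁻¹) =
          π m * (zb * zb) * (π m)⁻¹ by group, ← pow_two, ← hord, pow_orderOf_eq_one, mul_one, mul_inv_cancel]
      have h := hfixz m r hr hr2 r.2 hg
      exact ⟨r, ⟨hr, isConj_iff.2 ⟨(m : G), h⟩⟩, rfl⟩

end Datum

end Cfsg.Lib.MonsterLocal
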