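import Cfsg.Agent.Lib.Concrete.LeechModTwoAction
import Cfsg.Agent.Lib.Concrete.LeechCrossCore

/-!
The action on the lattice modulo twice itself, as additive maps.
-/

set_option autoImplicit false

namespace Cfsg.Lib.MonsterLocal

open Cfsg Cfsg.Lib.Concrete

/-- The quotient of the lattice by twice itself. -/
abbrev V : Type := leechLattice ⧸ twoLeech

/-- The class of a vector. -/
abbrev cls (x : leechLattice) : V := QuotientAddGroup.mk x

theorem mem_twoLeech {x : leechLattice} : x ∈ twoLeech ↔ ∃ w : leechLattice, x = w + w := by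
  rw [← QuotientAddGroup.eq_zero_iff, ← QuotientAddGroup.mk_zero, eq_comm, mk_eq_iff]
  constructor
  · rintro ⟨z, hz, e⟩
    exact ⟨⟨z, hz⟩, Subtype.ext (by simpa [two_mul] using e)⟩
  · rintro ⟨w, rfl⟩
    exact ⟨w, w.2, by simp [two_mul]⟩

theorem add_self (q : V) : q + q = 0 := by
  obtain ⟨x, rfl⟩ := QuotientAddGroup.mk_surjective q
  rw [← QuotientAddGroup.mk_add, QuotientAddGroup.eq_zero_iff, mem_twoLeech]
  exact ⟨x, rfl⟩

theorem odd_nsmul {n : ℕ} (hn : Odd n) (q : V) : n • q = q := by
  obtain ⟨k, rfl⟩ := hn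
  rw [add_nsmul, one_nsmul, mul_nsmul, two_nsmul, add_self, smul_zero, zero_add]

/-- An automorphism modulo twice the lattice. -/
noncomputable def qact (g : Co0) : V →+ V :=
  QuotientAddGroup.map twoLeech twoLeech (co0Hom g) (fun x hx => by
    obtain ⟨w, rfl⟩ := mem_twoLeech.1 hx
    exact mem_twoLeech.2 ⟨co0Hom g w, map_add _ w w⟩)

theorem qact_cls (g : Co0) (x : leechLattice) : qact g (cls x) = cls (g • x) := rfl

theorem qact_mul (g h : Co0) (q : V) : qact (g * h) q = qact g (qact h q) := by
  obtain ⟨x, rfl⟩ := QuotientAddGroup.mk_surjective q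
  exact congrArg cls (mul_smul g h x)

theorem qact_one (q : V) : qact 1 q = q := by
  obtain ⟨x, rfl⟩ := QuotientAddGroup.mk_surjective q
  exact congrArg cls (one_smul Co0 x)

theorem qact_inv_self (g : Co0) (q : V) : qact g⁻¹ (qact g q) = q := by
  rw [← qact_mul, inv_mul_cancel, qact_one]

theorem qact_injective (g : Co0) : Function.Injective (qact g) :=
  Function.LeftInverse.injective (qact_inv_self g)

theorem qact_pow_fix {g : Co0} {q : V} (h : qact g q = q) : ∀ k : ℕ, qact (g ^ k) q = q
  | 0 => by rw [pow_zero, qact_one]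
  | k + 1 => by rw [pow_succ, qact_mul, h, qact_pow_fix h k]

theorem qact_center {g : Co0} (hg : g ∈ Subgroup.center Co0) (q : V) : qact g q = q := by
  obtain ⟨x, rfl⟩ := QuotientAddGroup.mk_surjective q
  obtain ⟨t, ht, h⟩ := mem_center_apply hg 0
  rw [qact_cls]
  have h' : g • x = t • x := Subtype.ext (h x)
  rw [h']
  rcases ht with rfl | rfl
  · rw [one_zsmul]
  · rw [neg_one_zsmul]
    exact (neg_eq_of_add_eq_zero_left (add_self (cls x)))

/-- The class of the top vector determines membership in the stabiliser of the standard cross. -/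
theorem mem_crossStab_iff_cls {g : Co0} : g ∈ crossStab ↔ qact g (cls top) = cls top := by
  rw [mem_crossStab_iff_top, ← cross_top, qact_cls, mk_eq_iff]
  constructor
  · rintro ⟨-, -, h⟩; exact h
  · intro h; exact ⟨(g • top).2, co0_sqNorm g top, h⟩

/-- The classes fixed by an automorphism. -/
def fixSet (g : Co0) : Set V := {q | qact g q = q}

/-- The classes with a vector of norm 64. -/
def sixtySet : Set V := {q | ∃ v : leechLattice, sqNorm (v : GolayPt → ℤ) = 64 ∧ cls v = q}

end Cfsg.Lib.MonsterLocal
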