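import Cfsg.Agent.Lib.MonsterLocal.Datum

/-!
Placing an element that centralizes two commuting central involutions inside the stabiliser of the standard cross.
-/

set_option autoImplicit false

namespace Cfsg.Lib.MonsterLocal

open Cfsg Cfsg.Lib.Concrete

variable {G : Type*} [Group G] [Finite G] {z : G} {Q : Subgroup (Subgroup.centralizer ({z} : Set G))} [Q.Normal]

/-- An element of the common centralizer lifts into the cross stabiliser. -/
theorem exists_cross_rep (hM : IsOfMonsterType z Q) (q : Q)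
    (hc : IsConj z ((q : Subgroup.centralizer ({z} : Set G)) : G))
    (hne : ((q : Subgroup.centralizer ({z} : Set G)) : G) ≠ z) :
    ∃ (e : (Subgroup.centralizer ({z} : Set G)) ⧸ Q ≃* Spor.Co1) (ψ : leechLattice → Q ⧸ Subgroup.center Q),
      IsLeechModTwoIso Q e ψ ∧ (∀ c : Subgroup.centralizer ({z} : Set G),
        Commute (c : G) ((q : Subgroup.centralizer ({z} : Set G)) : G) →
          ∃ g ∈ crossStab, e (QuotientGroup.mk c) = QuotientGroup.mk g) ∧
      ∃ k : ℕ, Nat.card (Subgroup.centralizer ({z, ((q : Subgroup.centralizer ({z} : Set G)) : G)} : Set G)) =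
        2 ^ k * (2 ^ 21 * 239085) := by
  obtain ⟨e, ψ, hψ, htop⟩ := exists_adapted hM q hc hne
  refine ⟨e, ψ, hψ, fun c hcq => ?_, ?_⟩
  · obtain ⟨g, hg⟩ := QuotientGroup.mk_surjective (e (QuotientGroup.mk c))
    refine ⟨g, mem_crossStab_iff_cls.2 ?_, hg.symm⟩
    have h1 := hψ.2.2.2 c g hg top q htop
    rw [show (⟨c * q * c⁻¹, (inferInstance : Q.Normal).conj_mem (q : Subgroup.centralizer ({z} : Set G)) q.2 c⟩ : Q) = q
      from Subtype.ext (Subtype.ext (by
        show (c : G) * ((q : Subgroup.centralizer ({z} : Set G)) : G) * (c : G)⁻¹ = _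
        rw [hcq.eq, mul_inv_cancel_right])), ← htop] at h1
    obtain ⟨hadd, -, hker, -⟩ := hψ
    have h2 : g • top - top ∈ twoLeech := by
      rw [mem_twoLeech, ← hker]
      have h3 := hadd (g • top - top) top
      rw [sub_add_cancel, h1] at h3
      exact right_eq_mul.1 h3
    rwa [← QuotientAddGroup.eq_zero_iff, QuotientAddGroup.mk_sub, sub_eq_zero] at h2
  · obtain ⟨hzQ, hz, hZ, hcard⟩ := setting_facts hM
    obtain ⟨gz, hgz⟩ := isConj_iff.1 hc
    obtain ⟨κ, hκ, hX, -, -⟩ := cross_structure e ψ hψ hzQ hz hZ hcard (gz := gz) q hgz.symm (hgz ▸ hne) htop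
    rw [hgz] at hX
    set s := ((q : Subgroup.centralizer ({z} : Set G)) : G) with hs
    set H := (Subgroup.centralizer ({s} : Set G)).subgroupOf (Subgroup.centralizer ({z} : Set G)) with hH
    have hH' : Subgroup.centralizer ({z, s} : Set G) = H.map (Subgroup.centralizer ({z} : Set G)).subtype := by
      ext x
      simp only [hH, Subgroup.subgroupOf_map_subtype, Subgroup.mem_inf, Subgroup.mem_centralizer_iff,
        Set.mem_insert_iff, Set.mem_singleton_iff, forall_eq_or_imp, forall_eq]
      exact and_comm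
    have h := Subgroup.card_mul_index ((QuotientGroup.mk' Q).comp H.subtype).ker
    rw [Subgroup.index_ker, MonoidHom.range_comp, Subgroup.range_subtype, hX, (card_cross_image κ hκ).1] at h
    have hp : IsPGroup 2 ((QuotientGroup.mk' Q).comp H.subtype).ker := by
      have : (((QuotientGroup.mk' Q).comp H.subtype).ker.map H.subtype) ≤ Q := by
        rintro _ ⟨x, hx, rfl⟩
        exact (QuotientGroup.eq_one_iff _).1 hx
      exact ((IsPGroup.of_card hcard).to_le this).of_equiv (Subgroup.equivMapOfInjective _ _ H.subtype_injective).symm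
    haveI : Fact (Nat.Prime 2) := ⟨Nat.prime_two⟩
    obtain ⟨k, hk⟩ := hp.exists_card_eq
    refine ⟨k, ?_⟩
    rw [hH', Subgroup.card_map_of_injective (Subgroup.centralizer ({z} : Set G)).subtype_injective, ← h, hk]

omit [Finite G] in
/-- Twisting the identification by an automorphism of the lattice. -/
theorem twist (e : (Subgroup.centralizer ({z} : Set G)) ⧸ Q ≃* Spor.Co1) (ψ : leechLattice → Q ⧸ Subgroup.center Q)
    (hψ : IsLeechModTwoIso Q e ψ) (x : Co0) :
    IsLeechModTwoIso Q (e.trans (MulAut.conj (QuotientGroup.mk x : Spor.Co1))) (fun v => ψ (x⁻¹ • v)) := by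
  obtain ⟨hadd, hsurj, hker, hconj⟩ := hψ
  refine ⟨fun a b => by simp only [co0_add, hadd], fun y => ?_, fun v => ?_, fun h g hg v r hv => ?_⟩
  · obtain ⟨v, hv⟩ := hsurj y
    exact ⟨x • v, by simp only [inv_smul_smul, hv]⟩
  · rw [hker]
    constructor
    · rintro ⟨u, hu⟩
      exact ⟨x • u, by rw [← co0_add, ← hu, smul_inv_smul]⟩
    · rintro ⟨u, rfl⟩
      exact ⟨x⁻¹ • u, co0_add x⁻¹ u u⟩
  · have h1 : (QuotientGroup.mk (x⁻¹ * g * x) : Spor.Co1) = e (QuotientGroup.mk h) := by
      rw [QuotientGroup.mk_mul, QuotientGroup.mk_mul, QuotientGroup.mk_inv, hg, MulEquiv.trans_apply,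
        MulAut.conj_apply]
      group
    have h2 := hconj h (x⁻¹ * g * x) h1 (x⁻¹ • v) r hv
    rwa [← mul_smul, mul_inv_cancel_right, mul_smul] at h2

end Cfsg.Lib.MonsterLocal
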