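import Cfsg.Agent.Lib.MonsterLocal.Place
import Cfsg.Agent.S5407

/-!
Automorphisms conjugate to a change of signs lift to involutions of the centralizer in Monster type.
-/

set_option autoImplicit false
set_option maxHeartbeats 1000000

namespace Cfsg.Lib.MonsterLocal

open Cfsg Cfsg.Lib.Concrete

variable {G : Type*} [Group G] [Finite G] {z : G} {Q : Subgroup (Subgroup.centralizer ({z} : Set G))} [Q.Normal]

theorem exists_sign_lift (hM : IsOfMonsterType z Q)
    (e : (Subgroup.centralizer ({z} : Set G)) ⧸ Q ≃* Spor.Co1) (ψ : leechLattice → Q ⧸ Subgroup.center Q)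
    (hψ : IsLeechModTwoIso Q e ψ) {ε : Co0} (hε : ε ∈ signSub) :
    ∃ x : Subgroup.centralizer ({z} : Set G), x * x = 1 ∧ e (QuotientGroup.mk x) = QuotientGroup.mk ε := by
  haveI : Fact (Nat.Prime 2) := ⟨Nat.prime_two⟩
  obtain ⟨hzQ, hz, hZ, hcard⟩ := setting_facts hM
  obtain ⟨q0, hq0⟩ := QuotientGroup.mk_surjective (ψ top)
  obtain ⟨hconj, hne⟩ := (Cfsg.Agent.S5407.result z Q hM e ψ hψ q0).2
    ⟨top, (stdCross_subset (e8_mem_stdCross none)).2, hq0.symm⟩
  obtain ⟨gz, hgz⟩ := isConj_iff.1 hconj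
  obtain ⟨κ, hκ, hX, hN, hD⟩ := cross_structure e ψ hψ hzQ hz hZ hcard (gz := gz) q0 hgz.symm (hgz ▸ hne) hq0.symm
  set κ0 : Co0 →* (Subgroup.centralizer ({z} : Set G)) ⧸ Q := e.symm.toMonoidHom.comp (QuotientGroup.mk' (Subgroup.center Co0)) with hκ0
  have hκ0k : κ0.ker = Subgroup.center Co0 := by
    ext g
    show e.symm (QuotientGroup.mk g) = 1 ↔ _
    rw [MulEquiv.map_eq_one_iff, QuotientGroup.eq_one_iff]
  have hcross : crossStab.map κ = crossStab.map κ0 := by
    refine Subgroup.eq_of_le_of_card_ge ?_ ?_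
    · rw [← hX]
      rintro _ ⟨c, hc, rfl⟩
      obtain ⟨g, hg⟩ := QuotientGroup.mk_surjective (e (QuotientGroup.mk c))
      refine ⟨g, mem_crossStab_iff_cls.2 ?_, by
        show e.symm (QuotientGroup.mk g) = _
        rw [hg, MulEquiv.symm_apply_apply]; rfl⟩
      have hcq : Commute (c : G) ((q0 : (Subgroup.centralizer ({z} : Set G))) : G) := by
        rw [← hgz]; exact (Subgroup.mem_centralizer_singleton_iff.1 hc)
      have h1 := hψ.2.2.2 c g hg top q0 hq0.symm
      rw [show (⟨c * q0 * c⁻¹, (inferInstance : Q.Normal).conj_mem (q0 : (Subgroup.centralizer ({z} : Set G))) q0.2 c⟩ : Q) = q0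
        from Subtype.ext (Subtype.ext (by
          show (c : G) * ((q0 : (Subgroup.centralizer ({z} : Set G))) : G) * (c : G)⁻¹ = _
          rw [hcq.eq, mul_inv_cancel_right])), hq0] at h1
      obtain ⟨hadd, -, hker, -⟩ := hψ
      have h2 : g • top - top ∈ twoLeech := by
        rw [mem_twoLeech, ← hker]
        have h3 := hadd (g • top - top) top
        rw [sub_add_cancel, h1] at h3
        exact right_eq_mul.1 h3
      rwa [← QuotientAddGroup.eq_zero_iff, QuotientAddGroup.mk_sub, sub_eq_zero] at h2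
    · rw [(card_cross_image κ hκ).1, (card_cross_image κ0 hκ0k).1]
  have hsign : signSub.map κ = signSub.map κ0 := by
    refine Subgroup.eq_of_le_of_card_ge ?_ (by rw [(card_cross_image κ hκ).2, (card_cross_image κ0 hκ0k).2])
    set M := (signSub.map κ).comap κ0 with hMdef
    have hMle : M ≤ crossStab := fun g hg => by
      obtain ⟨g', hg', e1⟩ : κ0 g ∈ crossStab.map κ0 := hcross ▸ Subgroup.map_mono signSub_le hg
      have h1 : g'⁻¹ * g ∈ κ0.ker := by rw [MonoidHom.mem_ker, map_mul, map_inv, e1, inv_mul_cancel]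
      rw [hκ0k] at h1
      have := mul_mem hg' (center_le_crossStab h1)
      rwa [mul_inv_cancel_left] at this
    have hMn : ∀ g ∈ crossStab, ∀ m ∈ M, g * m * g⁻¹ ∈ M := by
      intro g hg m hm
      show κ0 (g * m * g⁻¹) ∈ signSub.map κ
      rw [map_mul, map_mul, map_inv]
      exact (monomial_split κ hκ).2.1 _ (hcross.symm ▸ ⟨g, hg, rfl⟩) _ hm
    have hM2 : IsPGroup 2 M := fun m => by
      obtain ⟨w, hw, hwe⟩ := m.2
      refine ⟨2, Subtype.ext ?_⟩
      have h1 : (m : Co0) * m ∈ Subgroup.center Co0 := by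
        rw [← hκ0k, MonoidHom.mem_ker, map_mul, ← hwe, ← map_mul, signSub_sq hw, map_one]
      have h2 := congrArg Subtype.val (pow_card_eq_one' (x := (⟨_, h1⟩ : Subgroup.center Co0)))
      rw [card_center_Co0] at h2
      rw [SubgroupClass.coe_pow, show (m : Co0) ^ 2 ^ 2 = ((m : Co0) * m) ^ 2 by rw [← pow_two, ← pow_mul]; norm_num]
      exact h2
    rintro x hx
    obtain ⟨g, -, rfl⟩ : x ∈ crossStab.map κ0 := hcross ▸ Subgroup.map_mono signSub_le hx
    exact ⟨g, le_signSub hMle hMn hM2 hx, rfl⟩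
  set Nc := ((Q.map (Subgroup.centralizer ({z} : Set G)).subtype).map (MulAut.conj gz).toMonoidHom).subgroupOf (Subgroup.centralizer ({z} : Set G)) with hNc
  obtain ⟨x, hxN, hxe⟩ : κ0 ε ∈ Nc.map (QuotientGroup.mk' Q) := by
    rw [hN, hsign]; exact ⟨ε, hε, rfl⟩
  have hxe' : e (QuotientGroup.mk x) = QuotientGroup.mk ε := by
    rw [show (QuotientGroup.mk x : (Subgroup.centralizer ({z} : Set G)) ⧸ Q) = e.symm (QuotientGroup.mk ε) from hxe, MulEquiv.apply_symm_apply]
  by_cases hxQ : x ∈ Q
  · refine ⟨1, one_mul 1, ?_⟩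
    rw [← hxe', (QuotientGroup.eq_one_iff x).2 hxQ, QuotientGroup.mk_one]
  let j : Q →* G := (MulAut.conj gz).toMonoidHom.comp ((Subgroup.centralizer ({z} : Set G)).subtype.comp Q.subtype)
  have hji : Function.Injective j :=
    (MulAut.conj gz).injective.comp (Subtype.val_injective.comp Subtype.val_injective)
  have hj : ∀ c : (Subgroup.centralizer ({z} : Set G)), c ∈ Nc → ∃ q : Q, j q = (c : G) := by
    intro c hc
    obtain ⟨_, ⟨q, hq, rfl⟩, h⟩ := hc
    exact ⟨⟨q, hq⟩, h⟩
  have hj2 : ∀ q : Q, q * q = 1 ∨ q * q = ⟨⟨z, Subgroup.mem_centralizer_singleton_iff.2 rfl⟩, hzQ _⟩ := by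
    intro q
    have hqq : q * q ∈ Subgroup.center Q := by
      obtain ⟨⟨⟨hp, hfr, -⟩, -⟩⟩ : Nonempty (IsExtraspecial 2 Q) := ⟨hM.1.2.2.1⟩
      rw [← hfr, ← pow_two]
      exact Cfsg.Lib.PGroup.pow_mem_frattini hp q
    refine (em (q * q = 1)).imp_right fun h => center_eq_of_ne_one hZ hqq ?_ h ?_
    · exact Subgroup.mem_center_iff.2 fun y => Subtype.ext (Subtype.ext
        (Subgroup.mem_centralizer_singleton_iff.1 (y : (Subgroup.centralizer ({z} : Set G))).2))
    · intro h'
      have : z = 1 := congrArg (fun y : Q => ((y : (Subgroup.centralizer ({z} : Set G))) : G)) h'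
      rw [this, orderOf_one] at hz
      omega
  have hsq : ∀ c : (Subgroup.centralizer ({z} : Set G)), c ∈ Nc → (c : G) * c = 1 ∨ (c : G) * c = gz * z * gz⁻¹ := by
    intro c hc
    obtain ⟨q, hq⟩ := hj c hc
    rw [← hq, ← map_mul]
    rcases hj2 q with h | h <;> rw [h]
    · exact Or.inl (map_one j)
    · exact Or.inr rfl
  rcases hsq x hxN with h | h
  · exact ⟨x, Subtype.ext h, hxe'⟩
  set Dd := Nc ⊓ Q with hDd
  have hDsq : ∀ d ∈ Dd, d * d = 1 := by
    intro d hd
    refine Subtype.ext ?_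
    rcases hsq d hd.1 with r | r
    · exact r
    · rcases hj2 ⟨d, hd.2⟩ with r' | r'
      · exact congrArg (fun y : Q => ((y : (Subgroup.centralizer ({z} : Set G))) : G)) r'
      · exfalso
        have : (d : G) * d = z := congrArg (fun y : Q => ((y : (Subgroup.centralizer ({z} : Set G))) : G)) r'
        rw [this] at r
        exact (hgz ▸ hne : gz * z * gz⁻¹ ≠ z) r.symm
  obtain ⟨d, hd, hdx⟩ : ∃ d ∈ Dd, ¬ x * d = d * x := by
    by_contra hall
    push Not at hall
    set A0 := Dd ⊔ Subgroup.zpowers x with hA0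
    have hA0N : A0 ≤ Nc := sup_le inf_le_left (Subgroup.zpowers_le.2 hxN)
    have hab : ∀ u ∈ A0, ∀ v ∈ A0, u * v = v * u := by
      have hle : A0 ≤ Subgroup.centralizer (A0 : Set (Subgroup.centralizer ({z} : Set G))) := by
        have h0 : Dd ≤ Subgroup.centralizer (Dd : Set (Subgroup.centralizer ({z} : Set G))) := fun u hu => Subgroup.mem_centralizer_iff.2 fun v hv => by
          have h1 := hDsq _ (mul_mem hv hu)
          have h2 := hDsq u hu
          have h3 := hDsq v hv
          calc v * u = (v * u)⁻¹ := (inv_eq_of_mul_eq_one_right h1).symm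
            _ = u⁻¹ * v⁻¹ := mul_inv_rev v u
            _ = u * v := by rw [inv_eq_of_mul_eq_one_right h2, inv_eq_of_mul_eq_one_right h3]
        rw [Subgroup.le_centralizer_iff, hA0]
        refine sup_le ?_ ?_
        · rw [Subgroup.le_centralizer_iff]
          exact sup_le h0 (Subgroup.zpowers_le.2 (Subgroup.mem_centralizer_iff.2 fun v hv => (hall v hv).symm))
        · rw [Subgroup.le_centralizer_iff]
          refine sup_le (fun v hv => Subgroup.mem_centralizer_iff.2 fun u hu => ?_) ?_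
          · obtain ⟨i, rfl⟩ := Subgroup.mem_zpowers_iff.1 hu
            exact ((show Commute x v from hall v hv).zpow_left i).eq
          · exact Subgroup.zpowers_le.2 (Subgroup.mem_centralizer_iff.2 fun u hu => by
              obtain ⟨i, rfl⟩ := Subgroup.mem_zpowers_iff.1 hu
              exact ((Commute.refl x).zpow_left i).eq)
      exact fun u hu v hv => Subgroup.mem_centralizer_iff.1 (hle hv) u hu
    set AQ := (A0.map (Subgroup.centralizer ({z} : Set G)).subtype).comap j with hAQ
    have hcA : Nat.card AQ = Nat.card A0 := by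
      rw [← Subgroup.card_map_of_injective hji, hAQ, Subgroup.map_comap_eq_self,
        Subgroup.card_map_of_injective (Subgroup.centralizer ({z} : Set G)).subtype_injective]
      rintro _ ⟨c, hc, rfl⟩
      exact hj c (hA0N hc)
    have habQ : ∀ u ∈ AQ, ∀ v ∈ AQ, u * v = v * u := by
      rintro u ⟨a, ha, hau⟩ v ⟨b, hb, hbv⟩
      exact hji (by rw [map_mul, map_mul, ← hau, ← hbv, ← map_mul, ← map_mul, hab a ha b hb])
    have hQab : ∀ u v : Q ⧸ Subgroup.center Q, u * v = v * u := by
      intro u v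
      obtain ⟨a, rfl⟩ := hψ.2.1 u
      obtain ⟨b, rfl⟩ := hψ.2.1 v
      rw [← hψ.1, ← hψ.1, add_comm]
    have h1 := card_abelian_sq_le hZ hQab AQ habQ
    rw [hcA, hcard] at h1
    have hlt : Dd < A0 := lt_of_le_of_ne le_sup_left fun e1 =>
      hxQ (inf_le_right (a := Nc) (show x ∈ Dd from e1 ▸ Subgroup.mem_sup_right (Subgroup.mem_zpowers x)))
    obtain ⟨k, hk⟩ := Subgroup.card_dvd_of_le hlt.le
    have hk2 : 2 ≤ k := by
      rcases k with - | - | k
      · rw [mul_zero] at hk; exact absurd hk Nat.card_pos.ne'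
      · exact absurd (Subgroup.eq_of_le_of_card_ge hlt.le (by rw [hk, Nat.zero_add, mul_one])) hlt.ne
      · omega
    have h2 : 2 ^ 14 ≤ Nat.card A0 := by
      rw [hk, show Nat.card Dd = 2 ^ 13 from hD]
      omega
    have h3 := (Nat.mul_le_mul h2 h2).trans h1
    norm_num at h3
  refine ⟨x * d, Subtype.ext ?_, ?_⟩
  · -- the commutator and the square cancel
    obtain ⟨p, hp⟩ := hj x hxN
    obtain ⟨r, hr⟩ := hj d hd.1
    have hQab : ∀ u v : Q ⧸ Subgroup.center Q, u * v = v * u := by
      intro u v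
      obtain ⟨a, rfl⟩ := hψ.2.1 u
      obtain ⟨b, rfl⟩ := hψ.2.1 v
      rw [← hψ.1, ← hψ.1, add_comm]
    have hc : r * p * r⁻¹ * p⁻¹ ∈ Subgroup.center Q := comm_mem_center hQab r p
    have hne1 : r * p * r⁻¹ * p⁻¹ ≠ 1 := fun e1 => hdx (Subtype.ext (by
      rw [Subgroup.coe_mul, Subgroup.coe_mul, ← hp, ← hr, ← map_mul, ← map_mul,
        commutatorElement_eq_one_iff_mul_comm.1 e1]))
    have hpp : p * p = r * p * r⁻¹ * p⁻¹ := by
      have hcp : p * p ∈ Subgroup.center Q := by
        rcases hj2 p with r' | r' <;> rw [r']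
        · exact one_mem _
        · exact Subgroup.mem_center_iff.2 fun y => Subtype.ext (Subtype.ext
            (Subgroup.mem_centralizer_singleton_iff.1 (y : (Subgroup.centralizer ({z} : Set G))).2))
      refine center_eq_of_ne_one hZ hcp hc (fun e1 => ?_) hne1
      rw [← hp, ← map_mul, e1, map_one] at h
      have : z = 1 := conj_eq_one_iff.1 h.symm
      rw [this, orderOf_one] at hz
      omega
    have hrr : r * r = 1 := hji (by
      rw [map_mul, hr, map_one]
      exact congrArg Subtype.val (hDsq d hd))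
    show ((x * d : (Subgroup.centralizer ({z} : Set G))) : G) * ((x * d : (Subgroup.centralizer ({z} : Set G))) : G) = 1
    rw [Subgroup.coe_mul, ← hp, ← hr, ← map_mul, ← map_mul]
    have key : p * r * (p * r) = 1 := by
      calc p * r * (p * r) = p * (r * p * r⁻¹ * p⁻¹) * p * (r * r) := by group
        _ = (r * p * r⁻¹ * p⁻¹) * (p * p) := by
          rw [Subgroup.mem_center_iff.1 hc p, hrr, mul_one, mul_assoc]
        _ = 1 := by rw [hpp]; exact center_mul_self hZ hc
    rw [key, map_one]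
  · rw [QuotientGroup.mk_mul, (QuotientGroup.eq_one_iff d).2 hd.2, mul_one, hxe']

end Cfsg.Lib.MonsterLocal
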