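import Cfsg.Agent.Lib.MonsterLocal.Large
import Cfsg.Agent.Lib.MonsterLocal.SignLift
import Cfsg.Agent.Lib.Extra.Structure

/-!
The normalizer of the cyclic group, and the layer of its centralizer.
-/

set_option autoImplicit false
set_option maxHeartbeats 1000000

namespace Cfsg.Lib.MonsterLocal

open Cfsg Cfsg.Lib.Concrete

namespace Datum

variable {G : Type*} [Group G] [Finite G] {z : G} {Q : Subgroup (Subgroup.centralizer ({z} : Set G))} [Q.Normal]
  {f : Co0} {p : ℕ} {a : G} (D : Datum z Q f p a)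

include D in
/-- An inverting involution, from an inverting automorphism conjugate to a change of signs. -/
theorem exists_inverting (hf : f ≠ 1) {g y ε : Co0} (hε : ε ∈ signSub) (hgy : g * y = y * ε)
    (hgf : g * f = f⁻¹ * g) : ∃ t : G, orderOf t = 2 ∧ t * a * t⁻¹ = a⁻¹ := by
  obtain ⟨x0, hx0, hx0e⟩ := exists_sign_lift ⟨D.setting, D.e, D.ψ, D.iso⟩ D.e D.ψ D.iso hε
  obtain ⟨h, hh⟩ := D.φ_surjective (QuotientGroup.mk y)
  set x := h * x0 * h⁻¹ with hx
  have hxx : x * x = 1 := by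
    rw [hx, show h * x0 * h⁻¹ * (h * x0 * h⁻¹) = h * (x0 * x0) * h⁻¹ by group, hx0, mul_one, mul_inv_cancel]
  have hφx : D.φ x = QuotientGroup.mk g := by
    rw [hx, map_mul, map_mul, map_inv, hh, show D.φ x0 = QuotientGroup.mk ε from hx0e, ← QuotientGroup.mk_mul,
      ← QuotientGroup.mk_inv, ← QuotientGroup.mk_mul, ← hgy, mul_inv_cancel_right]
  have hxi : x⁻¹ = x := inv_eq_of_mul_eq_one_right hxx
  set u := D.aC⁻¹ * x * D.aC * x with hu
  have hxu : x * u * x⁻¹ = u⁻¹ := by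
    refine eq_inv_of_mul_eq_one_left ?_
    have hxx' : ∀ w, x * (x * w) = w := fun w => by rw [← mul_assoc, hxx, one_mul]
    rw [hu, hxi]
    simp only [mul_assoc, hxx', mul_inv_cancel_left, inv_mul_cancel_left, hxx, mul_one]
  have hgi : g * f * g⁻¹ = f⁻¹ := by rw [hgf, mul_inv_cancel_right]
  have hfg : f⁻¹ * g = g * f := hgf.symm
  have hgfi : g * f⁻¹ = f * g := by
    rw [mul_inv_eq_iff_eq_mul, mul_assoc, hgf, ← mul_assoc, mul_inv_cancel, one_mul]
  have hφu : D.φ u = QuotientGroup.mk (f⁻¹ ^ 2) := by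
    rw [hu, map_mul, map_mul, map_mul, map_inv, hφx, D.φ_aC, ← QuotientGroup.mk_inv, ← QuotientGroup.mk_mul,
      ← QuotientGroup.mk_mul, ← QuotientGroup.mk_mul]
    have hg2 : (QuotientGroup.mk (g * g) : Spor.Co1) = 1 := by
      rw [QuotientGroup.mk_mul, ← hφx, ← map_mul, hxx, map_one]
    rw [show f⁻¹ * g * f * g = f⁻¹ ^ 2 * (g * g) by
      rw [mul_assoc f⁻¹ g f, hgf, pow_two]; group, QuotientGroup.mk_mul, hg2, mul_one]
  have hcenter : ∀ n : ℕ, f ^ n ∈ Subgroup.center Co0 → f ^ n = 1 := fun n hn =>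
    D.f_order_two hn (by rw [← pow_mul, mul_comm, pow_mul, D.fpow, one_pow])
  set v := u ^ (2 ^ 25) with hv
  have hxv : x * v * x⁻¹ = v⁻¹ := by
    rw [hv, ← MulAut.conj_apply, map_pow, MulAut.conj_apply, hxu, inv_pow]
  have hvp : v ^ p = 1 := by
    have hq : u ^ p ∈ Q := by
      rw [← D.φ_ker, map_pow, hφu, ← QuotientGroup.mk_pow, ← pow_mul, mul_comm, pow_mul, inv_pow, D.fpow,
        inv_one, one_pow, QuotientGroup.mk_one]
    have := congrArg Subtype.val (pow_card_eq_one' (x := (⟨_, hq⟩ : Q)))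
    rw [D.card_Q, SubgroupClass.coe_pow, OneMemClass.coe_one] at this
    rw [hv, ← pow_mul, mul_comm, pow_mul]
    exact this
  have hv1 : v ≠ 1 := by
    intro h1
    have h2 : (QuotientGroup.mk (f⁻¹ ^ (2 ^ 26)) : Spor.Co1) = 1 := by
      rw [show (2 : ℕ) ^ 26 = 2 * 2 ^ 25 by norm_num, pow_mul, QuotientGroup.mk_pow, ← hφu, ← map_pow, ← hv, h1,
        map_one]
    rw [QuotientGroup.eq_one_iff, inv_pow, Subgroup.inv_mem_iff] at h2
    have h3 := orderOf_dvd_of_pow_eq_one (hcenter _ h2)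
    rw [orderOf_eq_prime (p := p) (hp := ⟨D.prime⟩) D.fpow hf] at h3
    have h4 := D.prime.dvd_of_dvd_pow h3
    obtain ⟨k, hk⟩ := D.odd
    have := Nat.le_of_dvd two_pos h4
    have := D.prime.two_le
    omega
  haveI := Fact.mk D.prime
  set A' := Subgroup.zpowers D.aC
  haveI : Group.IsSolvable A' := isSolvable_of_comm fun w w' => Subtype.ext (by
    obtain ⟨i, hi⟩ := Subgroup.mem_zpowers_iff.1 w.2
    obtain ⟨j, hj⟩ := Subgroup.mem_zpowers_iff.1 w'.2
    show (w : Subgroup.centralizer ({z} : Set G)) * w' = w' * w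
    rw [← hi, ← hj, ← zpow_add, ← zpow_add, add_comm])
  have hB : Subgroup.zpowers v ≤ Q ⊔ A' := Subgroup.zpowers_le.2 (by
    have hq : v * ((D.aC⁻¹ ^ 2) ^ (2 ^ 25))⁻¹ ∈ Q := by
      rw [← D.φ_ker, map_mul, map_inv, hv]
      simp only [map_pow, map_inv, D.φ_aC, hφu, QuotientGroup.mk_pow, QuotientGroup.mk_inv, mul_inv_cancel]
    rw [show v = v * ((D.aC⁻¹ ^ 2) ^ (2 ^ 25))⁻¹ * (D.aC⁻¹ ^ 2) ^ (2 ^ 25) from (inv_mul_cancel_right _ _).symm]
    exact Subgroup.mul_mem_sup hq (pow_mem (pow_mem (inv_mem (Subgroup.mem_zpowers _)) _) _))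
  obtain ⟨n, hn, hBn⟩ := Cfsg.Lib.Coprime.exists_conj_of_coprime Q A' (Subgroup.zpowers v)
    (by rw [Q.normalizer_eq_top]; exact le_top) D.coprime_Q (Or.inl inferInstance) hB (by
      rw [Nat.card_zpowers, Nat.card_zpowers, D.aC_order, orderOf_eq_prime hvp hv1])
  obtain ⟨i, hi⟩ := Subgroup.mem_zpowers_iff.1 (show n * D.aC * n⁻¹ ∈ Subgroup.zpowers v from
    hBn.symm ▸ ⟨D.aC, Subgroup.mem_zpowers _, rfl⟩)
  refine ⟨((n⁻¹ * x * n : Subgroup.centralizer ({z} : Set G)) : G), ?_, ?_⟩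
  · have hx1 : n⁻¹ * x * n ≠ 1 := by
      intro h1
      have hx1 : x = 1 := by
        have := congrArg (fun w => n * w * n⁻¹) h1
        simp only [mul_one, mul_inv_cancel] at this
        rw [← this]; group
      refine hf ?_
      have hg1 : g ∈ Subgroup.center Co0 := by
        rw [← QuotientGroup.eq_one_iff, ← hφx, hx1, map_one]
      have h3 : f * f = 1 := by
        have h4 : g * f = g * f⁻¹ := by
          rw [hgf]; exact (Subgroup.mem_center_iff.1 hg1 f⁻¹)
        exact mul_eq_one_iff_eq_inv.2 (mul_left_cancel h4)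
      obtain ⟨k, hk⟩ := D.odd
      have := D.fpow
      rwa [hk, pow_succ, pow_mul, pow_two, h3, one_pow, one_mul] at this
    rw [Subgroup.orderOf_coe]
    refine orderOf_eq_prime ?_ hx1
    rw [pow_two, show n⁻¹ * x * n * (n⁻¹ * x * n) = n⁻¹ * (x * x) * n by group, hxx, mul_one, inv_mul_cancel]
  · have hkey : (n⁻¹ * x * n) * D.aC * (n⁻¹ * x * n)⁻¹ = D.aC⁻¹ := by
      have e1 : x * (n * D.aC * n⁻¹) * x⁻¹ = (n * D.aC * n⁻¹)⁻¹ := by
        rw [← hi, ← MulAut.conj_apply, map_zpow, MulAut.conj_apply, hxv, inv_zpow]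
      calc (n⁻¹ * x * n) * D.aC * (n⁻¹ * x * n)⁻¹ = n⁻¹ * (x * (n * D.aC * n⁻¹) * x⁻¹) * n := by group
        _ = D.aC⁻¹ := by rw [e1]; group
    exact congrArg (Subgroup.centralizer ({z} : Set G)).subtype hkey

include D in
/-- The index of the centralizer in the normalizer, given an element inducing a generator of the automorphisms. -/
theorem relIndex_eq {g : Co0} {k : ℕ} (hg : g * f * g⁻¹ = f ^ k)
    (hk : ∀ j : ℕ, ¬ p ∣ j → ∃ m : ℕ, k ^ m % p = j % p) :
    (Subgroup.centralizer (Subgroup.zpowers a : Set G)).relIndex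
      (Subgroup.normalizer (Subgroup.zpowers a : Set G)) = p - 1 := by
  haveI := Fact.mk D.prime
  obtain ⟨c, -, hca⟩ := D.exists_lift hg
  set A := Subgroup.zpowers a
  have hcard : Nat.card (MulAut A) = p - 1 := by
    rw [IsCyclic.card_mulAut, Nat.card_zpowers, D.order, Nat.totient_prime D.prime]
  have hcN : (c : G) ∈ Subgroup.normalizer (A : Set G) := by
    have h1 : A.map (MulAut.conj (c : G)).toMonoidHom = A := by
      refine Subgroup.eq_of_le_of_card_ge ?_ (Subgroup.card_map_of_injective (MulAut.conj (c : G)).injective).ge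
      rw [MonoidHom.map_zpowers, Subgroup.zpowers_le]
      show (c : G) * a * (c : G)⁻¹ ∈ A
      rw [hca]
      exact Subgroup.npow_mem_zpowers a k
    exact Subgroup.mem_normalizer_iff.2 fun w => ⟨fun hw => h1 ▸ ⟨w, hw, rfl⟩, fun hw => by
      obtain ⟨w', hw', e⟩ : (c : G) * w * (c : G)⁻¹ ∈ A.map (MulAut.conj (c : G)).toMonoidHom := h1.symm ▸ hw
      rwa [show w = w' from ((MulAut.conj (c : G)).injective e).symm]⟩
  have hpow : ∀ m : ℕ, (A.normalizerMonoidHom (⟨(c : G), hcN⟩ ^ m)) ⟨a, Subgroup.mem_zpowers a⟩ =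
      ⟨a ^ k ^ m, Subgroup.npow_mem_zpowers a _⟩ := by
    intro m
    induction m with
    | zero => rw [pow_zero, map_one]; exact Subtype.ext (by simp)
    | succ m ih =>
      rw [pow_succ', map_mul, MulAut.mul_apply, ih]
      refine Subtype.ext ?_
      show (c : G) * a ^ k ^ m * (c : G)⁻¹ = _
      rw [← MulAut.conj_apply, map_pow, MulAut.conj_apply, hca, ← pow_mul, ← pow_succ']
  have hs : Function.Surjective A.normalizerMonoidHom := by
    intro φ
    obtain ⟨j, hj⟩ := ((isOfFinOrder_of_finite a).mem_powers_iff_mem_zpowers).2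
      (φ ⟨a, Subgroup.mem_zpowers a⟩).2
    have hnd : ¬ p ∣ j := by
      intro h
      obtain ⟨l, rfl⟩ := h
      have h1 : φ ⟨a, Subgroup.mem_zpowers a⟩ = 1 :=
        Subtype.ext (hj.symm.trans (by simp only [← D.order, pow_mul, pow_orderOf_eq_one, one_pow]; rfl))
      have h2 := D.order
      rw [show a = 1 from congrArg Subtype.val (φ.map_eq_one_iff.1 h1), orderOf_one] at h2
      exact D.prime.one_lt.ne h2
    obtain ⟨m, hm⟩ := hk j hnd
    refine ⟨⟨(c : G), hcN⟩ ^ m, MulEquiv.ext fun w => ?_⟩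
    obtain ⟨i, hi⟩ := Subgroup.mem_zpowers_iff.1 w.2
    rw [show w = (⟨a, Subgroup.mem_zpowers a⟩ : A) ^ i from Subtype.ext (by rw [SubgroupClass.coe_zpow]; exact hi.symm),
      map_zpow, map_zpow, hpow]
    congr 1
    refine Subtype.ext (Eq.trans ?_ hj)
    exact pow_eq_pow_iff_modEq.2 (by rw [D.order]; exact hm)
  have h := Subgroup.index_ker A.normalizerMonoidHom
  rw [Subgroup.normalizerMonoidHom_ker, MonoidHom.range_eq_top.2 hs, Subgroup.card_top, hcard] at h
  exact h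

variable (hfaith : ∀ g : Co0, Commute g f → (∀ q ∈ fixSet f, qact g q = q) →
    g ∈ Subgroup.center Co0 ⊔ Subgroup.zpowers f)
  (hspan : ∀ S : AddSubgroup V, (∀ q ∈ fixSet f, q ∈ sixtySet → q ∈ S) → ∀ q ∈ fixSet f, q ∈ S)

include D hspan in
/-- A subgroup containing the involution and its conjugates in the fixed part contains the fixed part. -/
theorem fixR_le {H : Subgroup G} (hz : z ∈ H) (hH : ∀ r ∈ D.fixR, IsConj z r → r ∈ H) : D.fixR ≤ H := by
  let S : AddSubgroup V :=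
    { carrier := {u | ∀ (v : leechLattice) (q : Q), cls v = u → D.ψ v = QuotientGroup.mk q →
        ((q : Subgroup.centralizer ({z} : Set G)) : G) ∈ H}
      zero_mem' := fun v q hv hq => by
        have h1 : D.ψ v = 1 := by rw [← D.ψ_zero]; exact D.ψ_eq_iff.2 hv
        rw [h1, eq_comm, QuotientGroup.eq_one_iff] at hq
        rcases D.center_cases hq with h | h <;> rw [h]
        · exact one_mem H
        · exact hz
      add_mem' := fun {u u'} hu hu' v q hv hq => by
        obtain ⟨v1, rfl⟩ := QuotientAddGroup.mk_surjective u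
        obtain ⟨v2, rfl⟩ := QuotientAddGroup.mk_surjective u'
        obtain ⟨q1, hq1⟩ := QuotientGroup.mk_surjective (D.ψ v1)
        obtain ⟨q2, hq2⟩ := QuotientGroup.mk_surjective (D.ψ v2)
        have h1 : D.ψ v = QuotientGroup.mk (q1 * q2) := by
          rw [QuotientGroup.mk_mul, hq1, hq2, ← D.iso.1]
          exact D.ψ_eq_iff.2 hv
        rw [hq, QuotientGroup.eq] at h1
        have h12 : ((q1 * q2 : Q) : Subgroup.centralizer ({z} : Set G)).1 ∈ H :=
          mul_mem (hu v1 q1 rfl hq1.symm) (hu' v2 q2 rfl hq2.symm)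
        rcases D.center_cases h1 with h | h
        · rw [inv_mul_eq_one.1 h]; exact h12
        · rw [← mul_inv_cancel_left q (q1 * q2), h] at h12
          exact (H.mul_mem_cancel_right hz).1 h12
      neg_mem' := fun {u} hu v q hv hq => hu v q (by
        rw [hv, neg_eq_iff_add_eq_zero, add_self]) hq }
  intro r hr
  obtain ⟨q, rfl, hqa⟩ := D.mem_fixR.1 hr
  obtain ⟨v, hv⟩ := D.iso.2.1 (QuotientGroup.mk q)
  refine hspan S (fun u hu h64 w q' hw hq' => ?_) (cls v) ((D.commute_iff hv).1 hqa) v q rfl hv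
  refine hH _ (D.mem_fixR.2 ⟨q', rfl, (D.commute_iff hq').2 (hw.symm ▸ hu)⟩) ?_
  exact ((D.sixty_iff hq').2 (hw.symm ▸ h64)).1

include D hfaith hspan in
/-- The layer of the centralizer contains the fixed part. -/
theorem fixR_le_layer (h16 : 16 ≤ (fixSet f).ncard) {s : G} (hsR : s ∈ D.fixR) (hs : IsConj z s) (hs1 : s ≠ z) :
    D.fixR ≤ (Cfsg.layer ↥(Subgroup.centralizer (Subgroup.zpowers a : Set G))).map
      (Subgroup.centralizer (Subgroup.zpowers a : Set G)).subtype := by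
  haveI : Fact (Nat.Prime 2) := ⟨Nat.prime_two⟩
  haveI hn : ((Subgroup.zpowers a).subgroupOf (Subgroup.centralizer (Subgroup.zpowers a : Set G))).Normal :=
    ⟨fun x hx m => by
      have e := Subgroup.mem_centralizer_iff.1 m.2 (x : G) hx
      rw [show m * x * m⁻¹ = x from Subtype.ext (by
        show (m : G) * x * (m : G)⁻¹ = x
        rw [← e, mul_inv_cancel_right])]
      exact hx⟩
  set M := Subgroup.centralizer (Subgroup.zpowers a : Set G) with hMdef
  obtain ⟨gs, hgs⟩ := isConj_iff.1 hs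
  obtain ⟨⟨hE, hcent, hnorm, hodd⟩, -⟩ :=
    D.large_and_conj hfaith h16 (g := gs) (by rw [hgs]; exact hsR) (by rw [hgs]; exact hs1)
  set N := (Subgroup.zpowers a).subgroupOf M with hN
  set π := QuotientGroup.mk' N with hπ
  set R' := (D.fixR.subgroupOf M).map π
  have hRM : D.fixR ≤ M := inf_le_right
  set zM : M := ⟨z, hRM D.z_fixR⟩
  have hone : ∀ m : M, π m = 1 ↔ (m : G) ∈ Subgroup.zpowers a := fun m => by
    rw [hπ, QuotientGroup.mk'_apply, QuotientGroup.eq_one_iff, hN, Subgroup.mem_subgroupOf]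
  have hz2 : z ^ 2 = 1 := by rw [← D.setting.1, pow_orderOf_eq_one]
  have hzp : z ^ p = z := by
    obtain ⟨k, hk⟩ := D.odd
    rw [hk, pow_succ, pow_mul, hz2, one_pow, one_mul]
  have hzA : z ∉ Subgroup.zpowers a := by
    intro h
    have h1 := orderOf_dvd_natCard (⟨z, h⟩ : Subgroup.zpowers a)
    rw [Subgroup.orderOf_mk, Nat.card_zpowers, D.order, D.setting.1] at h1
    exact (Nat.not_even_iff_odd.2 D.odd) (even_iff_two_dvd.2 h1)
  have hzR' : π zM ∈ R' := ⟨zM, D.z_fixR, rfl⟩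
  have hzb1 : π zM ≠ 1 := fun h => hzA ((hone zM).1 h)
  have hrz : ∀ r ∈ D.fixR, Commute r z := fun r hr => by
    obtain ⟨q, rfl, -⟩ := D.mem_fixR.1 hr
    exact Subgroup.mem_centralizer_singleton_iff.1 (q : Subgroup.centralizer ({z} : Set G)).2
  have hzc : (⟨π zM, hzR'⟩ : R') ∈ Subgroup.center R' := Subgroup.mem_center_iff.2 fun x => Subtype.ext (by
    obtain ⟨r, hr, e⟩ := x.2
    show (x : M ⧸ N) * π zM = π zM * x
    rw [← e, ← map_mul, ← map_mul]
    exact congrArg π (Subtype.ext (hrz r hr).eq))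
  have hcz : (Subgroup.center R').map R'.subtype = Subgroup.zpowers (π zM) := by
    have hord : orderOf (π zM) = 2 := orderOf_eq_prime (by
      rw [← map_pow]; exact (congrArg π (Subtype.ext hz2)).trans (map_one π)) hzb1
    refine (Subgroup.eq_of_le_of_card_ge (Subgroup.zpowers_le.2 (Subgroup.mem_map_of_mem R'.subtype hzc)) ?_).symm
    rw [Subgroup.card_map_of_injective R'.subtype_injective, hE.2, Nat.card_zpowers]
    exact hord.ge
  have hCtx := Cfsg.Lib.Extra.ctx_of hE hcent.le hnorm hcz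
  have hmeet : ∀ K : Subgroup M, K.Normal → ¬ K ≤ N → zM ∈ K := by
    intro K hK hKN
    haveI := hK
    haveI : (K.map π).Normal := hK.map π (QuotientGroup.mk'_surjective N)
    have hne : K.map π ≠ ⊥ := by
      rw [Ne, Subgroup.map_eq_bot_iff, QuotientGroup.ker_mk']; exact hKN
    obtain ⟨k, hk, hkz⟩ := hCtx.mem_of_normalized hodd (by rw [Subgroup.normalizer_eq_top]; exact le_top) hne
    have h1 : (k : G) * z⁻¹ ∈ Subgroup.zpowers a := (hone (k * zM⁻¹)).1 (by
      rw [map_mul, map_inv, hkz, mul_inv_cancel])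
    obtain ⟨i, hi⟩ := Subgroup.mem_zpowers_iff.1 h1
    have hkp : k ^ p = zM := Subtype.ext (by
      show ((k ^ p : M) : G) = z
      rw [SubgroupClass.coe_pow, show (k : G) = a ^ i * z by rw [hi, inv_mul_cancel_right],
        (D.az_commute.zpow_left i).mul_pow, hzp, ← zpow_natCast, ← zpow_mul, mul_comm, zpow_mul, zpow_natCast,
        ← D.order, pow_orderOf_eq_one, one_zpow, one_mul])
    exact hkp ▸ pow_mem hk p
  have hRin : ∀ K : Subgroup M, K.Normal → zM ∈ K → D.fixR ≤ K.map M.subtype := by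
    intro K hK hzK
    refine D.fixR_le hspan ⟨zM, hzK, rfl⟩ fun r hr hc => ?_
    by_cases h : r = z
    · exact h ▸ ⟨zM, hzK, rfl⟩
    obtain ⟨g, rfl⟩ := isConj_iff.1 hc
    obtain ⟨x, hx, e⟩ := (D.large_and_conj hfaith h16 hr h).2
    refine ⟨(⟨x, hx⟩ : M)⁻¹ * zM * (⟨x, hx⟩ : M), ?_, ?_⟩
    · simpa using hK.conj_mem zM hzK (⟨x, hx⟩ : M)⁻¹
    · show x⁻¹ * z * x = g * z * g⁻¹
      calc x⁻¹ * z * x = x⁻¹ * (x * (g * z * g⁻¹) * x⁻¹) * x := by rw [e]
        _ = g * z * g⁻¹ := by group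
  refine hRin _ inferInstance ?_
  by_cases hle : Cfsg.layer M ≤ N
  swap
  · exact hmeet _ inferInstance hle
  exfalso
  have hcore : ∀ q : ℕ, q.Prime → Cfsg.pCore q M ≤ N := by
    intro q hq
    haveI := Fact.mk hq
    by_cases h2 : q = 2
    · subst h2
      by_contra hnot
      have hzP := hmeet _ inferInstance hnot
      set P := Cfsg.pCore 2 M
      haveI : Nontrivial P := ⟨⟨zM, hzP⟩, 1, fun h => D.z_ne_one (congrArg (fun y : P => ((y : M) : G)) h)⟩
      haveI := (Cfsg.Lib.Core.pCore_isPGroup 2 M).center_nontrivial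
      set Z := (Subgroup.center P).map P.subtype with hZ
      have hZn : Z.Normal := by rw [hZ]; infer_instance
      have hZN : ¬ Z ≤ N := by
        intro hle'
        obtain ⟨c, hc⟩ := exists_ne (1 : Subgroup.center P)
        have hcN : ((c.1 : M) : G) ∈ Subgroup.zpowers a := hle' ⟨c.1, c.2, rfl⟩
        obtain ⟨k, hk⟩ := (Cfsg.Lib.Core.pCore_isPGroup 2 M) c.1
        have h1 : orderOf ((c.1 : M) : G) ∣ 2 ^ k := orderOf_dvd_of_pow_eq_one (by
          rw [← SubgroupClass.coe_pow, ← SubgroupClass.coe_pow, hk]; rfl)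
        have h3 := orderOf_dvd_natCard (⟨((c.1 : M) : G), hcN⟩ : Subgroup.zpowers a)
        rw [Subgroup.orderOf_mk, Nat.card_zpowers, D.order] at h3
        exact hc (Subtype.ext (Subtype.ext (Subtype.ext (orderOf_eq_one_iff.1
          (Nat.eq_one_of_dvd_coprimes (Nat.Coprime.pow_left k (Nat.coprime_two_left.2 D.odd)) h1 h3)))))
      have hRZ := hRin Z hZn (hmeet Z hZn hZN)
      have hab : ∀ x ∈ D.fixR, ∀ y ∈ D.fixR, Commute x y := by
        intro x hx y hy
        obtain ⟨_, ⟨u, hu, rfl⟩, rfl⟩ := hRZ hx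
        obtain ⟨_, ⟨v, hv, rfl⟩, rfl⟩ := hRZ hy
        exact congrArg (fun w : P => ((w : M) : G)) (Subgroup.mem_center_iff.1 hv u)
      rcases D.fixR_center hsR (fun x hx => hab s hsR x hx) with h | h
      · rw [h] at hs
        exact D.z_ne_one (isConj_one_left.1 hs)
      · exact hs1 h
    · have hodd' : Odd (Nat.card ((Cfsg.pCore q M).map π)) := by
        obtain ⟨k, hk⟩ := ((Cfsg.Lib.Core.pCore_isPGroup q M).map π).exists_card_eq
        rw [hk]; exact (hq.odd_of_ne_two h2).pow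
      haveI : ((Cfsg.pCore q M).map π).Normal := Subgroup.Normal.map inferInstance π (QuotientGroup.mk'_surjective N)
      have h := hodd _ hodd' (by rw [Subgroup.normalizer_eq_top]; exact le_top)
      rwa [Subgroup.map_eq_bot_iff, QuotientGroup.ker_mk'] at h
  have hF : Cfsg.generalizedFittingSubgroup M ≤ N := by
    refine sup_le hle ?_
    rw [Cfsg.Lib.Core.fittingSubgroup_eq_iSup_pCore]
    exact iSup_le fun q => hcore q q.2
  refine hzA (hF (Cfsg.Lib.Core.centralizer_generalizedFitting_le ?_) : zM ∈ N)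
  refine Subgroup.mem_centralizer_iff.2 fun x hx => Subtype.ext ?_
  obtain ⟨i, hi⟩ := Subgroup.mem_zpowers_iff.1 (hF hx : (x : G) ∈ Subgroup.zpowers a)
  show (x : G) * z = z * x
  rw [show (x : G) = a ^ i from hi.symm]; exact (D.az_commute.zpow_left i).eq

end Datum

end Cfsg.Lib.MonsterLocal
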