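import Cfsg.Agent.Lib.MonsterLocal.ModTwo
import Cfsg.Agent.Lib.Concrete.MonsterCrossResult
import Cfsg.Agent.Lib.Coprime.Conjugacy

/-!
An element of odd prime order centralizing the central involution in Monster type: the fixed part of the
extraspecial subgroup and the lifting of centralizers.
-/

set_option autoImplicit false

namespace Cfsg.Lib.MonsterLocal

open Cfsg Cfsg.Lib.Concrete

variable {G : Type*} [Group G] {z : G} {Q : Subgroup (Subgroup.centralizer ({z} : Set G))} [Q.Normal]

/-- An element `a` of odd prime order in `C(z)` whose image is the automorphism `f`. -/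
structure Datum (z : G) (Q : Subgroup (Subgroup.centralizer ({z} : Set G))) [Q.Normal] (f : Co0) (p : ℕ) (a : G) where
  setting : IsExtraspecialCentralizerSetting z Q 12
  e : (Subgroup.centralizer ({z} : Set G)) ⧸ Q ≃* Spor.Co1
  ψ : leechLattice → Q ⧸ Subgroup.center Q
  iso : IsLeechModTwoIso Q e ψ
  prime : p.Prime
  odd : Odd p
  mem : a ∈ Subgroup.centralizer ({z} : Set G)
  order : orderOf a = p
  fpow : f ^ p = 1
  image : e (QuotientGroup.mk ⟨a, mem⟩) = QuotientGroup.mk f

namespace Datum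

variable {f : Co0} {p : ℕ} {a : G} (D : Datum z Q f p a)

/-- The centralizer of `z` onto the first Conway group. -/
noncomputable def φ : Subgroup.centralizer ({z} : Set G) →* Spor.Co1 :=
  D.e.toMonoidHom.comp (QuotientGroup.mk' Q)

theorem φ_ker {c : Subgroup.centralizer ({z} : Set G)} : D.φ c = 1 ↔ c ∈ Q := by
  show D.e (QuotientGroup.mk c) = 1 ↔ _
  rw [MulEquiv.map_eq_one_iff, QuotientGroup.eq_one_iff]

theorem φ_surjective : Function.Surjective D.φ :=
  D.e.surjective.comp (QuotientGroup.mk'_surjective Q)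

/-- The element, in the centralizer. -/
def aC : Subgroup.centralizer ({z} : Set G) := ⟨a, D.mem⟩

theorem φ_aC : D.φ D.aC = QuotientGroup.mk f := D.image

theorem aC_order : orderOf D.aC = p := by
  rw [← Subgroup.orderOf_coe]; exact D.order

include D in
theorem hab (x y : Q ⧸ Subgroup.center Q) : x * y = y * x := by
  obtain ⟨hadd, hsurj, -, -⟩ := D.iso
  obtain ⟨v, rfl⟩ := hsurj x
  obtain ⟨w, rfl⟩ := hsurj y
  rw [← hadd, ← hadd, add_comm]

include D in
theorem center_card : Nat.card (Subgroup.center Q) = 2 := D.setting.2.2.1.2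

include D in
theorem card_Q : Nat.card Q = 2 ^ 25 := D.setting.2.2.2.1

include D in
theorem z_mem : (⟨z, Subgroup.mem_centralizer_singleton_iff.2 rfl⟩ : Subgroup.centralizer ({z} : Set G)) ∈ Q := by
  rw [← D.setting.2.1]
  exact (le_sup_right : fittingSubgroup (Subgroup.centralizer ({z} : Set G)) ≤ _)
    (Cfsg.Lib.Core.center_le_fittingSubgroup (Subgroup.mem_center_iff.2 fun y =>
      Subtype.ext (Subgroup.mem_centralizer_singleton_iff.1 y.2)))

/-- The central involution, in `Q`. -/
def zQ : Q := ⟨_, D.z_mem⟩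

theorem zQ_center : D.zQ ∈ Subgroup.center Q := Subgroup.mem_center_iff.2 fun y => Subtype.ext (Subtype.ext
  (Subgroup.mem_centralizer_singleton_iff.1 (y : Subgroup.centralizer ({z} : Set G)).2))

include D in
theorem z_ne_one : z ≠ 1 := fun h => by
  have := D.setting.1
  rw [h, orderOf_one] at this
  omega

theorem center_cases {q : Q} (hq : q ∈ Subgroup.center Q) : q = 1 ∨ q = D.zQ :=
  (em (q = 1)).imp_right fun h => center_eq_of_ne_one D.center_card hq D.zQ_center h fun e =>
    D.z_ne_one (congrArg (fun y : Q => ((y : Subgroup.centralizer ({z} : Set G)) : G)) e)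

theorem ψ_zero : D.ψ 0 = 1 := (D.iso.2.2.1 0).2 ⟨0, (add_zero 0).symm⟩

theorem ψ_eq_iff {v w : leechLattice} : D.ψ v = D.ψ w ↔ cls v = cls w := by
  obtain ⟨hadd, -, hker, -⟩ := D.iso
  have hsub : D.ψ v = D.ψ (v - w) * D.ψ w := by rw [← hadd, sub_add_cancel]
  have hw : cls v = cls w ↔ v - w ∈ twoLeech := by
    rw [← QuotientAddGroup.eq_zero_iff, QuotientAddGroup.mk_sub, sub_eq_zero]
  rw [hw, mem_twoLeech, ← hker, hsub, mul_eq_right]

theorem conj_class {c : Subgroup.centralizer ({z} : Set G)} {g : Co0} (hg : D.φ c = QuotientGroup.mk g)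
    {v : leechLattice} {q : Q} (hq : D.ψ v = QuotientGroup.mk q) :
    D.ψ (g • v) = QuotientGroup.mk (MulAut.conjNormal c q) :=
  D.iso.2.2.2 c g hg.symm v q hq

/-- The fixed elements of `Q` are those of the fixed classes. -/
theorem commute_iff {v : leechLattice} {q : Q} (hq : D.ψ v = QuotientGroup.mk q) :
    Commute a ((q : Subgroup.centralizer ({z} : Set G)) : G) ↔ cls v ∈ fixSet f := by
  have hc := D.conj_class (c := D.aC) D.φ_aC hq
  constructor
  · intro hcomm
    rw [show (MulAut.conjNormal D.aC q : Q) = q from Subtype.ext (Subtype.ext (by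
      show a * ((q : Subgroup.centralizer ({z} : Set G)) : G) * a⁻¹ = _
      rw [hcomm.eq, mul_inv_cancel_right])), ← hq] at hc
    exact D.ψ_eq_iff.1 hc
  · intro hfix
    rw [D.ψ_eq_iff.2 (show cls (f • v) = cls v from hfix), hq, QuotientGroup.eq] at hc
    rcases D.center_cases hc with h | h
    · have := congrArg (fun y : Q => ((y : Subgroup.centralizer ({z} : Set G)) : G)) (inv_mul_eq_one.1 h)
      have e : a * ((q : Subgroup.centralizer ({z} : Set G)) : G) * a⁻¹ =
          ((q : Subgroup.centralizer ({z} : Set G)) : G) := this.symm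
      exact mul_inv_eq_iff_eq_mul.1 e
    · exfalso
      set x := ((q : Subgroup.centralizer ({z} : Set G)) : G) with hx
      have e1 : a * x * a⁻¹ = x * z :=
        congrArg (fun y : Q => ((y : Subgroup.centralizer ({z} : Set G)) : G)) (inv_mul_eq_iff_eq_mul.1 h)
      have haz : Commute a z := Subgroup.mem_centralizer_singleton_iff.1 D.mem
      have hp : ∀ n : ℕ, a ^ n * x * (a ^ n)⁻¹ = x * z ^ n := by
        intro n
        induction n with
        | zero => simp
        | succ n ih =>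
          rw [pow_succ', pow_succ' z, mul_inv_rev, show a * a ^ n * x * ((a ^ n)⁻¹ * a⁻¹) =
            a * (a ^ n * x * (a ^ n)⁻¹) * a⁻¹ by group, ih, show a * (x * z ^ n) * a⁻¹ =
            (a * x * a⁻¹) * (a * z ^ n * a⁻¹) by group, e1, (haz.pow_right n).eq, mul_inv_cancel_right, mul_assoc]
      have h1 := hp p
      rw [← D.order, pow_orderOf_eq_one, one_mul, inv_one, mul_one, D.order, eq_comm, mul_eq_left] at h1
      obtain ⟨k, hk⟩ := D.odd
      rw [hk, pow_succ, pow_mul, show z ^ 2 = 1 by rw [← D.setting.1, pow_orderOf_eq_one], one_pow, one_mul] at h1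
      exact D.z_ne_one h1

/-- The fixed part of `Q`, as a subgroup of the group. -/
def fixR (_D : Datum z Q f p a) : Subgroup G :=
  Q.map (Subgroup.centralizer ({z} : Set G)).subtype ⊓ Subgroup.centralizer (Subgroup.zpowers a : Set G)

omit [Q.Normal] in
theorem mem_centralizer_zpowers {x : G} :
    x ∈ Subgroup.centralizer (Subgroup.zpowers a : Set G) ↔ Commute a x := by
  rw [Subgroup.mem_centralizer_iff]
  exact ⟨fun h => h a (Subgroup.mem_zpowers a), fun h y hy => by
    obtain ⟨k, rfl⟩ := Subgroup.mem_zpowers_iff.1 hy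
    exact (h.zpow_left k).eq⟩

include D in
theorem mem_fixR {x : G} : x ∈ D.fixR ↔
    ∃ q : Q, ((q : Subgroup.centralizer ({z} : Set G)) : G) = x ∧ Commute a x := by
  rw [fixR, Subgroup.mem_inf, mem_centralizer_zpowers]
  constructor
  · rintro ⟨⟨c, hc, rfl⟩, h⟩
    exact ⟨⟨c, hc⟩, rfl, h⟩
  · rintro ⟨q, rfl, h⟩
    exact ⟨⟨_, q.2, rfl⟩, h⟩

include D in
theorem z_fixR : z ∈ D.fixR :=
  D.mem_fixR.2 ⟨D.zQ, rfl, Subgroup.mem_centralizer_singleton_iff.1 D.mem⟩

variable [Finite G]

include D in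
/-- The order of the fixed part. -/
theorem card_fixR : Nat.card D.fixR = 2 * (fixSet f).ncard := by
  set S : Subgroup Q := D.fixR.comap ((Subgroup.centralizer ({z} : Set G)).subtype.comp Q.subtype)
  have hmem : ∀ q : Q, q ∈ S ↔ Commute a ((q : Subgroup.centralizer ({z} : Set G)) : G) := fun q =>
    ⟨fun h => by obtain ⟨-, -, hc⟩ := D.mem_fixR.1 h; exact hc, fun h => D.mem_fixR.2 ⟨q, rfl, h⟩⟩
  have hS : Nat.card S = Nat.card D.fixR := by
    rw [← Subgroup.card_map_of_injective
      (f := (Subgroup.centralizer ({z} : Set G)).subtype.comp Q.subtype)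
      (Subtype.val_injective.comp Subtype.val_injective)]
    congr 1
    refine congrArg Subtype (funext fun x => propext ⟨?_, fun hx => ?_⟩)
    · rintro ⟨q, hq, rfl⟩; exact hq
    · obtain ⟨q, rfl, hc⟩ := D.mem_fixR.1 hx
      exact ⟨q, (hmem q).2 hc, rfl⟩
  have h := Subgroup.card_mul_index ((QuotientGroup.mk' (Subgroup.center Q)).comp S.subtype).ker
  rw [Subgroup.index_ker, MonoidHom.range_comp, Subgroup.range_subtype] at h
  have hker : Nat.card ((QuotientGroup.mk' (Subgroup.center Q)).comp S.subtype).ker = 2 := by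
    rw [← D.center_card, show ((QuotientGroup.mk' (Subgroup.center Q)).comp S.subtype).ker =
      (Subgroup.center Q).subgroupOf S by rw [← MonoidHom.comap_ker, QuotientGroup.ker_mk']; rfl]
    refine Nat.card_congr (Subgroup.subgroupOfEquivOfLe fun q hq => (hmem q).2 ?_).toEquiv
    rcases D.center_cases hq with rfl | rfl
    · exact Commute.one_right a
    · exact Subgroup.mem_centralizer_singleton_iff.1 D.mem
  let T : Set leechLattice := {v | cls v ∈ fixSet f}
  have himg : ((S.map (QuotientGroup.mk' (Subgroup.center Q)) : Subgroup _) : Set (Q ⧸ Subgroup.center Q)) =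
      D.ψ '' T := by
    ext y
    constructor
    · rintro ⟨q, hq, rfl⟩
      obtain ⟨v, hv⟩ := D.iso.2.1 (QuotientGroup.mk q)
      exact ⟨v, (D.commute_iff hv).1 ((hmem q).1 hq), hv⟩
    · rintro ⟨v, hv, rfl⟩
      obtain ⟨q, hq⟩ := QuotientGroup.mk_surjective (D.ψ v)
      exact ⟨q, (hmem q).2 ((D.commute_iff hq.symm).2 hv), hq⟩
  have hn : Nat.card (S.map (QuotientGroup.mk' (Subgroup.center Q))) = (fixSet f).ncard := by
    rw [← SetLike.coe_sort_coe, Nat.card_coe_set_eq, himg]
    have e1 : cls '' T = fixSet f := Set.image_preimage_eq _ QuotientAddGroup.mk_surjective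
    rw [← e1]
    let lift : V → Q ⧸ Subgroup.center Q := fun u => D.ψ u.out
    have hl : ∀ v, lift (cls v) = D.ψ v := fun v => D.ψ_eq_iff.2 (QuotientAddGroup.out_eq' (cls v))
    have hinj : Function.Injective lift := fun x y hxy => by
      have := D.ψ_eq_iff.1 hxy
      exact (QuotientAddGroup.out_eq' x).symm.trans (this.trans (QuotientAddGroup.out_eq' y))
    rw [show D.ψ '' T = lift '' (cls '' T) by rw [Set.image_image]; exact Set.image_congr fun v _ => (hl v).symm,
      Set.ncard_image_of_injective _ hinj]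
  rw [← hS, ← h, hker, hn]

include D in
theorem f_order_two {t : Co0} (ht : t ∈ Subgroup.center Co0) (htp : t ^ p = 1) : t = 1 := by
  have h2 : t ^ 2 = 1 := by
    have := congrArg Subtype.val (pow_card_eq_one' (x := (⟨t, ht⟩ : Subgroup.center Co0)))
    rwa [card_center_Co0] at this
  obtain ⟨k, hk⟩ := D.odd
  rwa [hk, pow_succ, pow_mul, h2, one_pow, one_mul] at htp

/-- The image of a centralizing element centralizes. -/
theorem exists_commute {c : Subgroup.centralizer ({z} : Set G)} (hc : Commute a (c : G)) :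
    ∃ g : Co0, D.φ c = QuotientGroup.mk g ∧ Commute g f := by
  obtain ⟨g, hg⟩ := QuotientGroup.mk_surjective (D.φ c)
  refine ⟨g, hg.symm, ?_⟩
  have hcc : Commute c D.aC := Subtype.ext hc.symm.eq
  have h1 : g * f * g⁻¹ * f⁻¹ ∈ Subgroup.center Co0 := by
    rw [← QuotientGroup.eq_one_iff, QuotientGroup.mk_mul, QuotientGroup.mk_mul, QuotientGroup.mk_mul,
      QuotientGroup.mk_inv, QuotientGroup.mk_inv, hg, ← D.φ_aC, ← map_inv, ← map_inv, ← map_mul, ← map_mul, ← map_mul, hcc.eq, mul_inv_cancel_right,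
      mul_inv_cancel, map_one]
  set t := g * f * g⁻¹ * f⁻¹ with ht
  have htf : t * f = g * f * g⁻¹ := by rw [ht]; group
  have h2 : (t * f) ^ p = 1 := by
    rw [htf, ← MulAut.conj_apply, ← map_pow, D.fpow, map_one]
  rw [(show Commute t f from (Subgroup.mem_center_iff.1 h1 f).symm).mul_pow, D.fpow, mul_one] at h2
  rw [D.f_order_two h1 h2, one_mul] at htf
  exact (mul_inv_eq_iff_eq_mul.1 htf.symm)

include D in
theorem coprime_Q : (Nat.card (Subgroup.zpowers D.aC)).Coprime (Nat.card Q) := by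
  rw [Nat.card_zpowers, D.aC_order, D.card_Q]
  refine Nat.Coprime.pow_right _ (Nat.coprime_two_right.2 D.odd)

/-- A lift normalizing the cyclic group, with prescribed action. -/
theorem exists_lift {g : Co0} {k : ℕ} (hg : g * f * g⁻¹ = f ^ k) :
    ∃ c : Subgroup.centralizer ({z} : Set G), D.φ c = QuotientGroup.mk g ∧ (c : G) * a * (c : G)⁻¹ = a ^ k := by
  obtain ⟨h, hh⟩ := D.φ_surjective (QuotientGroup.mk g)
  set A' := Subgroup.zpowers D.aC
  set b := h * D.aC * h⁻¹ with hb
  have hq : b * (D.aC ^ k)⁻¹ ∈ Q := by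
    rw [← D.φ_ker, map_mul, map_inv, map_pow, hb, map_mul, map_mul, map_inv, hh, D.φ_aC,
      ← QuotientGroup.mk_mul, ← QuotientGroup.mk_inv, ← QuotientGroup.mk_mul, hg, QuotientGroup.mk_pow,
      mul_inv_cancel]
  have hB : Subgroup.zpowers b ≤ Q ⊔ A' := Subgroup.zpowers_le.2 (by
    rw [show b = b * (D.aC ^ k)⁻¹ * D.aC ^ k by group]
    exact Subgroup.mul_mem_sup hq (Subgroup.npow_mem_zpowers _ _))
  haveI : Group.IsSolvable A' := isSolvable_of_comm fun x y => Subtype.ext (by
    obtain ⟨i, hi⟩ := Subgroup.mem_zpowers_iff.1 x.2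
    obtain ⟨j, hj⟩ := Subgroup.mem_zpowers_iff.1 y.2
    show (x : Subgroup.centralizer ({z} : Set G)) * y = y * x
    rw [← hi, ← hj, ← zpow_add, ← zpow_add, add_comm])
  obtain ⟨n, hn, hBn⟩ := Cfsg.Lib.Coprime.exists_conj_of_coprime Q A' (Subgroup.zpowers b)
    (by rw [Q.normalizer_eq_top]; exact le_top) D.coprime_Q (Or.inl inferInstance) hB (by
      rw [Nat.card_zpowers, Nat.card_zpowers, hb, ← MulAut.conj_apply, MulEquiv.orderOf_eq])
  refine ⟨n⁻¹ * h, ?_, ?_⟩
  · rw [map_mul, map_inv, (D.φ_ker.2 hn), inv_one, one_mul, hh]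
  · obtain ⟨w, hw, hwb⟩ : b ∈ A'.map (MulAut.conj n).toMonoidHom := hBn ▸ Subgroup.mem_zpowers b
    have hw' : n⁻¹ * b * n = w := by
      have : n * w * n⁻¹ = b := hwb
      rw [← this]; group
    have hwQ : w * (D.aC ^ k)⁻¹ ∈ Q := by
      rw [← D.φ_ker] at hq ⊢
      rw [← hw', map_mul, map_mul, map_mul, map_inv, D.φ_ker.2 hn, inv_one, one_mul, mul_one, ← map_mul]
      exact hq
    have h1 : w * (D.aC ^ k)⁻¹ = 1 := by
      have hd := Cfsg.Lib.Coprime.disjoint_of_coprime_card D.coprime_Q
      exact Subgroup.disjoint_def.1 hd (mul_mem hw (inv_mem (Subgroup.npow_mem_zpowers _ _))) hwQ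
    have h2 : (n⁻¹ * h) * D.aC * (n⁻¹ * h)⁻¹ = D.aC ^ k := by
      rw [← mul_inv_eq_one.1 h1, ← hw', hb]; group
    exact congrArg Subtype.val h2

end Datum

end Cfsg.Lib.MonsterLocal
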