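import Cfsg.Agent.Lib.MonsterLocal.Datum

/-!
The fixed part is nondegenerate and, given faithfulness on the fixed classes, is almost self-centralizing.
-/

set_option autoImplicit false
set_option maxHeartbeats 1000000

namespace Cfsg.Lib.MonsterLocal

open Cfsg Cfsg.Lib.Concrete

namespace Datum

variable {G : Type*} [Group G] [Finite G] {z : G} {Q : Subgroup (Subgroup.centralizer ({z} : Set G))} [Q.Normal]
  {f : Co0} {p : ℕ} {a : G} (D : Datum z Q f p a)

include D in
/-- An element of the fixed part commuting with all of it is central. -/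
theorem fixR_center {r : G} (hr : r ∈ D.fixR) (h : ∀ x ∈ D.fixR, Commute r x) : r = 1 ∨ r = z := by
  obtain ⟨q, rfl, hqa⟩ := D.mem_fixR.1 hr
  suffices hc : q ∈ Subgroup.center Q by
    rcases D.center_cases hc with rfl | rfl
    · exact Or.inl rfl
    · exact Or.inr rfl
  refine Subgroup.mem_center_iff.2 fun y => ?_
  by_contra hy
  set χ := pairChar D.center_card D.hab q with hχ
  have hZχ : Subgroup.center Q ≤ χ.ker := fun w hw => MonoidHom.mem_ker.2
    ((pairChar_apply _ _ q w).2 (Subgroup.mem_center_iff.1 hw q).symm)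
  set χb := QuotientGroup.lift (Subgroup.center Q) χ hZχ with hχb
  have hmk : ∀ w : Q, χb (QuotientGroup.mk w) = χ w := fun w => QuotientGroup.lift_mk' _ _ _
  obtain ⟨v, hv⟩ := D.iso.2.1 (QuotientGroup.mk y)
  have hne : ∀ w : Q, χ w ≠ 1 ↔ ¬ w * q = q * w := fun w => not_congr (pairChar_apply _ _ q w)
  have hm1 : ∀ u : ℤˣ, u ≠ 1 → u = -1 := fun u hu => (Int.units_eq_one_or u).resolve_left hu
  -- every translate pairs nontrivially
  have hstep : ∀ n : ℕ, χb (D.ψ (f ^ n • v)) = -1 := by
    intro n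
    induction n with
    | zero =>
      rw [pow_zero, one_smul, hv, hmk]
      exact hm1 _ ((hne y).2 hy)
    | succ n ih =>
      obtain ⟨w, hw⟩ := QuotientGroup.mk_surjective (D.ψ (f ^ n • v))
      have hc := D.conj_class (c := D.aC) D.φ_aC hw.symm
      rw [pow_succ', mul_smul, hc, hmk]
      rw [← hw, hmk] at ih
      have h1 : χ w ≠ 1 := by rw [ih]; decide
      refine hm1 _ ((hne _).2 fun e => (hne w).1 h1 ?_)
      have e' := congrArg (fun u : Q => ((u : Subgroup.centralizer ({z} : Set G)) : G)) e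
      simp only [Subgroup.coe_mul, MulAut.conjNormal_apply] at e'
      refine Subtype.ext (Subtype.ext ?_)
      simp only [Subgroup.coe_mul]
      set x := ((q : Subgroup.centralizer ({z} : Set G)) : G)
      set u := ((w : Subgroup.centralizer ({z} : Set G)) : G)
      have hac : ((D.aC : Subgroup.centralizer ({z} : Set G)) : G) = a := rfl
      simp only [InvMemClass.coe_inv, hac] at e'
      calc u * x = a⁻¹ * (a * u * a⁻¹ * (a * x * a⁻¹)) * a := by group
        _ = a⁻¹ * (a * u * a⁻¹ * x) * a := by rw [hqa.eq, mul_inv_cancel_right]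
        _ = a⁻¹ * (x * (a * u * a⁻¹)) * a := by rw [e']
        _ = a⁻¹ * (a * x * a⁻¹ * (a * u * a⁻¹)) * a := by rw [hqa.eq, mul_inv_cancel_right]
        _ = x * u := by group
  let S : ℕ → leechLattice := fun n => ∑ i ∈ Finset.range n, f ^ i • v
  have hS : ∀ n, χb (D.ψ (S n)) = (-1) ^ n := by
    intro n
    induction n with
    | zero => simp only [S, Finset.range_zero, Finset.sum_empty, D.ψ_zero, map_one, pow_zero]
    | succ n ih =>
      simp only [S, Finset.sum_range_succ] at ih ⊢
      rw [D.iso.1, map_mul, ih, hstep, pow_succ]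
  have hfix : cls (S p) ∈ fixSet f := by
    show qact f (cls (S p)) = cls (S p)
    simp only [S]
    rw [show cls (∑ i ∈ Finset.range p, f ^ i • v) = ∑ i ∈ Finset.range p, qact (f ^ i) (cls v) from
      map_sum (QuotientAddGroup.mk' twoLeech) _ _, map_sum]
    simp only [← qact_mul, ← pow_succ']
    have h1 := Finset.sum_range_succ' (fun i => qact (f ^ i) (cls v)) p
    rw [Finset.sum_range_succ, D.fpow, pow_zero] at h1
    exact (add_right_cancel h1).symm
  obtain ⟨w, hw⟩ := QuotientGroup.mk_surjective (D.ψ (S p))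
  have hwR : ((w : Subgroup.centralizer ({z} : Set G)) : G) ∈ D.fixR :=
    D.mem_fixR.2 ⟨w, rfl, (D.commute_iff hw.symm).2 hfix⟩
  have hw1 : χ w = 1 := (pairChar_apply _ _ q w).2 (Subtype.ext (Subtype.ext (h _ hwR).symm.eq))
  have := hS p
  rw [← hw, hmk, hw1, D.odd.neg_one_pow] at this
  exact absurd this (by decide)

variable (hfaith : ∀ g : Co0, Commute g f → (∀ q ∈ fixSet f, qact g q = q) →
  g ∈ Subgroup.center Co0 ⊔ Subgroup.zpowers f)

include D hfaith in
/-- The common centralizer of the element and the fixed part. -/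
theorem centralizer_le {c : G} (hca : Commute a c) (hcR : ∀ x ∈ D.fixR, Commute c x) :
    c ∈ Subgroup.zpowers a ⊔ Subgroup.zpowers z := by
  have hcC : c ∈ Subgroup.centralizer ({z} : Set G) :=
    Subgroup.mem_centralizer_singleton_iff.2 (hcR z D.z_fixR).eq
  obtain ⟨g, hg, hgf⟩ := D.exists_commute (c := ⟨c, hcC⟩) hca
  have htriv : ∀ u ∈ fixSet f, qact g u = u := by
    intro u hu
    obtain ⟨v, rfl⟩ := QuotientAddGroup.mk_surjective u
    obtain ⟨q, hq⟩ := QuotientGroup.mk_surjective (D.ψ v)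
    have h1 := D.conj_class hg hq.symm
    have hx := D.mem_fixR.2 ⟨q, rfl, (D.commute_iff hq.symm).2 hu⟩
    rw [show (MulAut.conjNormal (⟨c, hcC⟩ : Subgroup.centralizer ({z} : Set G)) q : Q) = q from
      Subtype.ext (Subtype.ext (by
        show c * ((q : Subgroup.centralizer ({z} : Set G)) : G) * c⁻¹ = _
        rw [(hcR _ hx).eq, mul_inv_cancel_right])), hq] at h1
    exact (qact_cls g v).trans (D.ψ_eq_iff.1 h1)
  obtain ⟨t, ht, w, hw, rfl⟩ := Subgroup.mem_sup_of_normal_left.1 (hfaith g hgf htriv)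
  obtain ⟨i, rfl⟩ := Subgroup.mem_zpowers_iff.1 hw
  have hq : (⟨c, hcC⟩ : Subgroup.centralizer ({z} : Set G)) * (D.aC ^ i)⁻¹ ∈ Q := by
    rw [← D.φ_ker, map_mul, map_inv, map_zpow, hg, D.φ_aC, QuotientGroup.mk_mul,
      (QuotientGroup.eq_one_iff t).2 ht, one_mul, QuotientGroup.mk_zpow, mul_inv_cancel]
  have hai : ((D.aC ^ i : Subgroup.centralizer ({z} : Set G)) : G) = a ^ i := SubgroupClass.coe_zpow _ _
  have hr : c * (a ^ i)⁻¹ ∈ D.fixR := D.mem_fixR.2 ⟨⟨_, hq⟩, by
    show c * ((D.aC ^ i : Subgroup.centralizer ({z} : Set G)) : G)⁻¹ = _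
    rw [hai], hca.mul_right (((Commute.refl a).zpow_right i).inv_right)⟩
  have hcen : ∀ x ∈ D.fixR, Commute (c * (a ^ i)⁻¹) x := fun x hx => by
    obtain ⟨-, -, hax⟩ := D.mem_fixR.1 hx
    exact (hcR x hx).mul_left ((hax.zpow_left i).inv_left)
  rw [show c = a ^ i * (c * (a ^ i)⁻¹) by
    rw [((hca.mul_right (((Commute.refl a).zpow_right i).inv_right)).zpow_left i).eq, inv_mul_cancel_right]]
  refine Subgroup.mul_mem_sup (Subgroup.zpow_mem_zpowers _ _) ?_
  rcases D.fixR_center hr hcen with h | h <;> rw [h]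
  · exact one_mem _
  · exact Subgroup.mem_zpowers z

end Datum

end Cfsg.Lib.MonsterLocal
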