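import Cfsg.Agent.Lib.MonsterLocal.Kernel
import Cfsg.Agent.S5428
import Cfsg.Agent.S5407

/-!
The fixed part is large in the centralizer of the element modulo it, and its conjugates of the central
involution are conjugate inside that centralizer.
-/

set_option autoImplicit false

namespace Cfsg.Lib.MonsterLocal

open Cfsg Cfsg.Lib.Concrete

namespace Datum

variable {G : Type*} [Group G] [Finite G] {z : G} {Q : Subgroup (Subgroup.centralizer ({z} : Set G))} [Q.Normal]
  {f : Co0} {p : ℕ} {a : G} (D : Datum z Q f p a)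
  (hfaith : ∀ g : Co0, Commute g f → (∀ q ∈ fixSet f, qact g q = q) →
    g ∈ Subgroup.center Co0 ⊔ Subgroup.zpowers f)

include D in
theorem az_commute : Commute a z := Subgroup.mem_centralizer_singleton_iff.1 D.mem

include D in
theorem az_coprime : (orderOf a).Coprime (orderOf z) := by
  rw [D.order, D.setting.1]; exact Nat.coprime_two_right.2 D.odd

include D hfaith in
theorem hyps_for_large :
    (Cfsg.oddCore ↥(Subgroup.centralizer ((Subgroup.zpowers a ⊔ D.fixR : Subgroup G) : Set G))).map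
      (Subgroup.centralizer ((Subgroup.zpowers a ⊔ D.fixR : Subgroup G) : Set G)).subtype ≤ Subgroup.zpowers a ∧
    ¬ 4 ∣ Nat.card ↥(Subgroup.centralizer ((Subgroup.zpowers a ⊔ D.fixR : Subgroup G) : Set G)) := by
  set Dc := Subgroup.centralizer ((Subgroup.zpowers a ⊔ D.fixR : Subgroup G) : Set G)
  have hle : Dc ≤ Subgroup.zpowers a ⊔ Subgroup.zpowers z := fun c hc =>
    D.centralizer_le hfaith (Subgroup.mem_centralizer_iff.1 hc a (Subgroup.mem_sup_left (Subgroup.mem_zpowers a)))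
      fun x hx => (Subgroup.mem_centralizer_iff.1 hc x (Subgroup.mem_sup_right hx)).symm
  have hcomm : ⁅Subgroup.zpowers a, Subgroup.zpowers z⁆ = ⊥ := by
    rw [Subgroup.commutator_eq_bot_iff_le_centralizer, Subgroup.zpowers_le]
    exact mem_centralizer_zpowers.2 D.az_commute.symm
  refine ⟨?_, ?_⟩
  · rintro _ ⟨w, hw, rfl⟩
    obtain ⟨x, hx, y, hy, hxy⟩ := (Cfsg.Lib.Core.mem_sup_of_commute hcomm).1 (hle w.2)
    have hy2 : y ^ 2 = 1 := by
      obtain ⟨j, rfl⟩ := Subgroup.mem_zpowers_iff.1 hy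
      rw [← zpow_natCast (z ^ j), ← zpow_mul, mul_comm, zpow_mul, zpow_natCast,
        show z ^ 2 = 1 by rw [← D.setting.1, pow_orderOf_eq_one], one_zpow]
    have hc : Commute x y := by
      obtain ⟨i, rfl⟩ := Subgroup.mem_zpowers_iff.1 hx
      obtain ⟨j, rfl⟩ := Subgroup.mem_zpowers_iff.1 hy
      exact (D.az_commute.zpow_zpow i j)
    have hw2 : (w : G) ^ 2 ∈ Subgroup.zpowers a := by
      rw [← hxy, hc.mul_pow, hy2, mul_one]; exact pow_mem hx 2
    have hodd : Odd (orderOf (w : G)) := by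
      have h1 : orderOf (w : G) ∣ Nat.card (Cfsg.oddCore Dc) := by
        rw [Subgroup.orderOf_coe, ← Subgroup.orderOf_mk w hw]; exact orderOf_dvd_natCard _
      exact (Nat.coprime_two_right.1 (Cfsg.Lib.Core.pPrimeCore_coprime 2 Dc)).of_dvd_nat h1
    obtain ⟨k, hk⟩ := hodd
    show (w : G) ∈ _
    rw [show (w : G) = ((w : G) ^ 2) ^ (k + 1) by
      rw [← pow_mul, show 2 * (k + 1) = 2 * k + 1 + 1 by ring, ← hk, pow_succ, pow_orderOf_eq_one, one_mul]]
    exact pow_mem hw2 _
  · intro h4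
    have hE : Subgroup.zpowers a ⊔ Subgroup.zpowers z ≤ Subgroup.zpowers (a * z) := by
      have hp : (a * z) ^ p = z := by
        rw [D.az_commute.mul_pow, ← D.order, pow_orderOf_eq_one, one_mul, D.order]
        obtain ⟨k, hk⟩ := D.odd
        rw [hk, pow_succ, pow_mul, show z ^ 2 = 1 by rw [← D.setting.1, pow_orderOf_eq_one], one_pow, one_mul]
      have hz : z ∈ Subgroup.zpowers (a * z) := by
        have h := Subgroup.npow_mem_zpowers (a * z) p
        rwa [hp] at h
      refine sup_le (Subgroup.zpowers_le.2 ?_) (Subgroup.zpowers_le.2 hz)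
      have h := mul_mem (Subgroup.mem_zpowers (a * z)) (inv_mem hz)
      rwa [mul_inv_cancel_right] at h
    have h1 := h4.trans (Subgroup.card_dvd_of_le (hle.trans hE))
    rw [Nat.card_zpowers, D.az_commute.orderOf_mul_eq_mul_orderOf_of_coprime D.az_coprime, D.order,
      D.setting.1] at h1
    obtain ⟨k, hk⟩ := D.odd
    omega

/-- The extraspecial subgroup, in the group. -/
def QG (_D : Datum z Q f p a) : Subgroup G := Q.map (Subgroup.centralizer ({z} : Set G)).subtype

include D in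
theorem QG_center_not_mem {r : G} (hr1 : r ≠ 1) (hrz : r ≠ z) :
    r ∉ (Subgroup.center ↥D.QG).map D.QG.subtype := by
  rintro ⟨⟨x, q, hq, rfl⟩, hx, rfl⟩
  have hc : (⟨q, hq⟩ : Q) ∈ Subgroup.center Q := Subgroup.mem_center_iff.2 fun y => Subtype.ext (Subtype.ext
    (congrArg (fun u : D.QG => (u : G)) (Subgroup.mem_center_iff.1 hx ⟨_, ⟨_, y.2, rfl⟩⟩)))
  rcases D.center_cases hc with h | h
  · exact hr1 (congrArg (fun y : Q => ((y : Subgroup.centralizer ({z} : Set G)) : G)) h)
  · exact hrz (congrArg (fun y : Q => ((y : Subgroup.centralizer ({z} : Set G)) : G)) h)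

include D hfaith in
/-- The consequence of the theorem on fixed parts of large extraspecial subgroups. -/
theorem large_and_conj (h16 : 16 ≤ (fixSet f).ncard) {g : G} (hg : g * z * g⁻¹ ∈ D.fixR) (hne : g * z * g⁻¹ ≠ z)
    [hn : ((Subgroup.zpowers a).subgroupOf (Subgroup.centralizer (Subgroup.zpowers a : Set G))).Normal] :
    Cfsg.IsLargeExtraspecial ((D.fixR.subgroupOf (Subgroup.centralizer (Subgroup.zpowers a : Set G))).map
        (QuotientGroup.mk' ((Subgroup.zpowers a).subgroupOf (Subgroup.centralizer (Subgroup.zpowers a : Set G))))) ∧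
      ∃ x ∈ Subgroup.centralizer (Subgroup.zpowers a : Set G), x * (g * z * g⁻¹) * x⁻¹ = z := by
  haveI : Fact (Nat.Prime 2) := ⟨Nat.prime_two⟩
  obtain ⟨hO, h4⟩ := D.hyps_for_large hfaith
  have hA : Subgroup.zpowers a ≤ Subgroup.centralizer ({z} : Set G) := Subgroup.zpowers_le.2 D.mem
  have hF : (Cfsg.generalizedFittingSubgroup ↥(Subgroup.centralizer ({z} : Set G))).map
      (Subgroup.centralizer ({z} : Set G)).subtype = D.QG := by rw [D.setting.2.1]; rfl
  have hQ : Cfsg.IsExtraspecial 2 ↥D.QG := Cfsg.Lib.Extra.isExtraspecial_congr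
    (Q.equivMapOfInjective _ (Subgroup.centralizer ({z} : Set G)).subtype_injective) D.setting.2.2.1
  have hM : Subgroup.centralizer (Subgroup.zpowers a : Set G) =
      Subgroup.centralizer (Subgroup.zpowers a : Set G) ⊔ Subgroup.zpowers a :=
    (sup_eq_left.2 (Subgroup.zpowers_le.2 (mem_centralizer_zpowers.2 (Commute.refl a)))).symm
  have h := Cfsg.Agent.S5428.result z D.setting.1 D.QG (Subgroup.map_subtype_le _) hF hQ (Subgroup.zpowers a) hA
    (by rw [Nat.card_zpowers, D.order]; exact D.odd) D.fixR rfl (by rw [D.card_fixR]; omega) hO h4 g hg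
    (D.QG_center_not_mem (fun e => D.z_ne_one (conj_eq_one_iff.1 e)) hne)
    (Subgroup.centralizer (Subgroup.zpowers a : Set G)) hM
  obtain ⟨-, hL, x, hx, hxz⟩ := h
  exact ⟨hL, x, (sup_le inf_le_right inf_le_right :
    D.fixR ⊔ _ ≤ Subgroup.centralizer (Subgroup.zpowers a : Set G)) hx, hxz⟩

include D in
theorem sixty_iff {q : Q} {v : leechLattice} (hv : D.ψ v = QuotientGroup.mk q) :
    (IsConj z ((q : Subgroup.centralizer ({z} : Set G)) : G) ∧
      ((q : Subgroup.centralizer ({z} : Set G)) : G) ≠ z) ↔ cls v ∈ sixtySet := by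
  rw [Cfsg.Agent.S5407.result z Q ⟨D.setting, D.e, D.ψ, D.iso⟩ D.e D.ψ D.iso q]
  constructor
  · rintro ⟨u, hu, e⟩
    exact ⟨u, hu, D.ψ_eq_iff.1 (e.trans hv.symm)⟩
  · rintro ⟨u, hu, e⟩
    exact ⟨u, hu, (D.ψ_eq_iff.2 e).trans hv⟩

include D in
/-- The number of conjugates of the involution in the fixed part. -/
theorem ncard_conj : {r : G | r ∈ D.fixR ∧ IsConj z r}.ncard = 2 * (fixSet f ∩ sixtySet).ncard + 1 := by
  set ι : Q → G := fun q => ((q : Subgroup.centralizer ({z} : Set G)) : G) with hι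
  have hιi : Function.Injective ι := Subtype.val_injective.comp Subtype.val_injective
  set T : Set (Q ⧸ Subgroup.center Q) := D.ψ '' {v | cls v ∈ fixSet f ∩ sixtySet}
  set U : Set Q := QuotientGroup.mk ⁻¹' T
  have hU : ∀ q : Q, q ∈ U ↔ Commute a (ι q) ∧ IsConj z (ι q) ∧ ι q ≠ z := by
    intro q
    constructor
    · rintro ⟨v, hv, e⟩
      exact ⟨(D.commute_iff e).2 hv.1, (D.sixty_iff e).2 hv.2⟩
    · rintro ⟨h1, h2⟩
      obtain ⟨v, hv⟩ := D.iso.2.1 (QuotientGroup.mk q)
      exact ⟨v, ⟨(D.commute_iff hv).1 h1, (D.sixty_iff hv).1 h2⟩, hv⟩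
  have hset : {r : G | r ∈ D.fixR ∧ IsConj z r} = insert z (ι '' U) := by
    ext r
    simp only [Set.mem_setOf_eq, Set.mem_insert_iff, Set.mem_image, hU]
    constructor
    · rintro ⟨hr, hc⟩
      obtain ⟨q, rfl, hq⟩ := D.mem_fixR.1 hr
      by_cases h : ι q = z
      · exact Or.inl h
      · exact Or.inr ⟨q, ⟨hq, hc, h⟩, rfl⟩
    · rintro (rfl | ⟨q, ⟨h1, h2, -⟩, rfl⟩)
      · exact ⟨D.z_fixR, IsConj.refl _⟩
      · exact ⟨D.mem_fixR.2 ⟨q, rfl, h1⟩, h2⟩
  have hT : T.ncard = (fixSet f ∩ sixtySet).ncard := by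
    let lift : V → Q ⧸ Subgroup.center Q := fun u => D.ψ u.out
    have hl : ∀ v, lift (cls v) = D.ψ v := fun v => D.ψ_eq_iff.2 (QuotientAddGroup.out_eq' (cls v))
    have hinj : Function.Injective lift := fun x y hxy =>
      (QuotientAddGroup.out_eq' x).symm.trans ((D.ψ_eq_iff.1 hxy).trans (QuotientAddGroup.out_eq' y))
    have e1 : cls '' {v | cls v ∈ fixSet f ∩ sixtySet} = fixSet f ∩ sixtySet :=
      Set.image_preimage_eq _ QuotientAddGroup.mk_surjective
    rw [← e1, ← Set.ncard_image_of_injective _ hinj, Set.image_image]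
    exact congrArg Set.ncard (Set.image_congr fun v _ => (hl v).symm)
  have hUc : U.ncard = 2 * T.ncard := by
    rw [← Nat.card_coe_set_eq, Nat.card_congr (QuotientGroup.preimageMkEquivSubgroupProdSet _ T), Nat.card_prod,
      D.center_card, Nat.card_coe_set_eq]
  rw [hset, Set.ncard_insert_of_notMem (by rintro ⟨q, hq, e⟩; exact ((hU q).1 hq).2.2 e) (Set.toFinite _),
    Set.ncard_image_of_injective _ hιi, hUc, hT]

end Datum

end Cfsg.Lib.MonsterLocal
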