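import Cfsg.Agent.Lib.MonsterLocal.Automizer

/-!
An element inverting the cyclic group acts on the layer of its centralizer as an outer automorphism, if no inverting
automorphism is trivial on the fixed classes.
-/

set_option autoImplicit false

namespace Cfsg.Lib.MonsterLocal

open Cfsg Cfsg.Lib.Concrete

namespace Datum

variable {G : Type*} [Group G] [Finite G] {z : G} {Q : Subgroup (Subgroup.centralizer ({z} : Set G))} [Q.Normal]
  {f : Co0} {p : ℕ} {a : G} (D : Datum z Q f p a)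

include D in
/-- An inverting element does not centralize the fixed part. -/
theorem inverting_moves (hnf : ∀ g : Co0, g * f = f⁻¹ * g → ¬ ∀ q ∈ fixSet f, qact g q = q)
    {u : G} (hua : u * a * u⁻¹ = a⁻¹) : ¬ ∀ x ∈ D.fixR, Commute u x := by
  intro huR
  have huC : u ∈ Subgroup.centralizer ({z} : Set G) :=
    Subgroup.mem_centralizer_singleton_iff.2 (huR z D.z_fixR).eq
  obtain ⟨g, hg⟩ := QuotientGroup.mk_surjective (D.φ ⟨u, huC⟩)
  have hc : (⟨u, huC⟩ : Subgroup.centralizer ({z} : Set G)) * D.aC * (⟨u, huC⟩)⁻¹ * D.aC = 1 :=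
    Subtype.ext (by
      show u * a * u⁻¹ * a = 1
      rw [hua, inv_mul_cancel])
  have h1 : g * f * g⁻¹ * f ∈ Subgroup.center Co0 := by
    rw [← QuotientGroup.eq_one_iff, QuotientGroup.mk_mul, QuotientGroup.mk_mul, QuotientGroup.mk_mul,
      QuotientGroup.mk_inv, hg, ← D.φ_aC, ← map_inv, ← map_mul, ← map_mul, ← map_mul, hc, map_one]
  set t := g * f * g⁻¹ * f with ht
  have htf : t * f⁻¹ = g * f * g⁻¹ := by rw [ht, mul_inv_cancel_right]
  have h2 : (t * f⁻¹) ^ p = 1 := by rw [htf, ← MulAut.conj_apply, ← map_pow, D.fpow, map_one]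
  rw [(show Commute t f⁻¹ from (Subgroup.mem_center_iff.1 h1 f⁻¹).symm).mul_pow, inv_pow, D.fpow, inv_one, mul_one] at h2
  rw [D.f_order_two h1 h2, one_mul] at htf
  refine hnf g (by rw [htf, inv_mul_cancel_right]) fun q hq => ?_
  obtain ⟨v, rfl⟩ := QuotientAddGroup.mk_surjective q
  obtain ⟨r, hr⟩ := QuotientGroup.mk_surjective (D.ψ v)
  have h3 := D.conj_class hg.symm hr.symm
  rw [show (MulAut.conjNormal (⟨u, huC⟩ : Subgroup.centralizer ({z} : Set G)) r : Q) = r from
    Subtype.ext (Subtype.ext (by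
      show u * ((r : Subgroup.centralizer ({z} : Set G)) : G) * u⁻¹ = _
      rw [(huR _ (D.mem_fixR.2 ⟨r, rfl, (D.commute_iff hr.symm).2 hq⟩)).eq, mul_inv_cancel_right])), hr] at h3
  exact (qact_cls g v).trans (D.ψ_eq_iff.1 h3)

include D in
/-- The index, an inverting involution, and its outer action on the layer. -/
theorem automizer (hf : f ≠ 1)
    (hfaith : ∀ g : Co0, Commute g f → (∀ q ∈ fixSet f, qact g q = q) →
      g ∈ Subgroup.center Co0 ⊔ Subgroup.zpowers f)
    (hspan : ∀ S : AddSubgroup V, (∀ q ∈ fixSet f, q ∈ sixtySet → q ∈ S) → ∀ q ∈ fixSet f, q ∈ S)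
    (hnf : ∀ g : Co0, g * f = f⁻¹ * g → ¬ ∀ q ∈ fixSet f, qact g q = q)
    (h16 : 16 ≤ (fixSet f).ncard) {g y ε : Co0} (hε : ε ∈ signSub) (hgy : g * y = y * ε) (hgf : g * f = f⁻¹ * g)
    {s : G} (hsR : s ∈ D.fixR) (hs : IsConj z s) (hs1 : s ≠ z) :
    ∃ t : G, orderOf t = 2 ∧ (∀ b ∈ Subgroup.zpowers a, t * b * t⁻¹ = b⁻¹) ∧
      (∀ x ∈ (Cfsg.layer ↥(Subgroup.centralizer (Subgroup.zpowers a : Set G))).map
          (Subgroup.centralizer (Subgroup.zpowers a : Set G)).subtype,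
        t * x * t⁻¹ ∈ (Cfsg.layer ↥(Subgroup.centralizer (Subgroup.zpowers a : Set G))).map
          (Subgroup.centralizer (Subgroup.zpowers a : Set G)).subtype) ∧
      ¬ ∃ l ∈ (Cfsg.layer ↥(Subgroup.centralizer (Subgroup.zpowers a : Set G))).map
          (Subgroup.centralizer (Subgroup.zpowers a : Set G)).subtype,
        ∀ x ∈ (Cfsg.layer ↥(Subgroup.centralizer (Subgroup.zpowers a : Set G))).map
          (Subgroup.centralizer (Subgroup.zpowers a : Set G)).subtype, t * x * t⁻¹ = l * x * l⁻¹ := by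
  obtain ⟨t, ht, hta⟩ := D.exists_inverting hf hε hgy hgf
  have hinv : ∀ b ∈ Subgroup.zpowers a, t * b * t⁻¹ = b⁻¹ := by
    intro b hb
    obtain ⟨i, rfl⟩ := Subgroup.mem_zpowers_iff.1 hb
    rw [← MulAut.conj_apply, map_zpow, MulAut.conj_apply, hta, inv_zpow]
  have hR := D.fixR_le_layer hfaith hspan h16 hsR hs hs1
  set M := Subgroup.centralizer (Subgroup.zpowers a : Set G) with hM
  refine ⟨t, ht, hinv, ?_, ?_⟩
  · have htM : ∀ w, w ∈ M ↔ t * w * t⁻¹ ∈ M := fun w => by
      have hta' : t * a⁻¹ * t⁻¹ = a := by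
        have := congrArg Inv.inv hta
        rwa [inv_inv, mul_inv_rev, mul_inv_rev, inv_inv, ← mul_assoc] at this
      rw [hM, mem_centralizer_zpowers, mem_centralizer_zpowers]
      constructor
      · intro h
        have h1 := (Commute.conj_iff t).2 (h.inv_left)
        rwa [hta'] at h1
      · intro h
        rw [← Commute.conj_iff t, hta]
        exact h.inv_left
    let φ : MulAut M := M.normalizerMonoidHom ⟨t, Subgroup.mem_normalizer_iff.2 htM⟩
    rintro x ⟨w, hw, rfl⟩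
    exact ⟨φ w, Cfsg.Lib.Core.map_layer_le_of_equiv φ ⟨w, hw, rfl⟩, rfl⟩
  · rintro ⟨l, hl, hact⟩
    have hlM : l ∈ M := Subgroup.map_subtype_le _ hl
    refine D.inverting_moves hnf (u := l⁻¹ * t) ?_ fun x hx => ?_
    · have hla : Commute a l := mem_centralizer_zpowers.1 hlM
      calc l⁻¹ * t * a * (l⁻¹ * t)⁻¹ = l⁻¹ * (t * a * t⁻¹) * l := by group
        _ = a⁻¹ := by rw [hta, mul_assoc, (hla.inv_left).eq, inv_mul_cancel_left]
    · have h := hact x (hR hx)
      refine mul_inv_eq_iff_eq_mul.1 ?_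
      calc l⁻¹ * t * x * (l⁻¹ * t)⁻¹ = l⁻¹ * (t * x * t⁻¹) * l := by group
        _ = x := by rw [h]; group

end Datum

end Cfsg.Lib.MonsterLocal
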